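import Mathlib

set_option autoImplicit false

namespace Cfsg.Agent.Lib.Helper16

section Conic

variable {F : Type*} [Field F]

/-- The parametrization of the conic `x² + t x y + y² = 1` by lines through `(1, 0)`. -/
noncomputable def conicPt (t : F) (m : F) : F × F :=
  (1 + m * (-(2 * m + t) / (m ^ 2 + t * m + 1)), -(2 * m + t) / (m ^ 2 + t * m + 1))

theorem conicPt_mem (t m : F) (hm : m ^ 2 + t * m + 1 ≠ 0) :
    (conicPt t m).1 ^ 2 + t * (conicPt t m).1 * (conicPt t m).2 + (conicPt t m).2 ^ 2 = 1 := by
  simp only [conicPt]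
  have hs : (-(2 * m + t) / (m ^ 2 + t * m + 1)) * (m ^ 2 + t * m + 1) = -(2 * m + t) :=
    div_mul_cancel₀ _ hm
  generalize (-(2 * m + t) / (m ^ 2 + t * m + 1)) = s at hs ⊢
  linear_combination s * hs

theorem card_conic [Fintype F] (t : F) (h2 : (2 : F) ≠ 0) (ht : t ^ 2 ≠ 4) :
    Nat.card {p : F × F // p.1 ^ 2 + t * p.1 * p.2 + p.2 ^ 2 = 1} +
      Nat.card {m : F // m ^ 2 + t * m + 1 = 0} = Fintype.card F + 1 := by
  classical
  have h4 : (4 : F) ≠ 0 := by
    have : (4 : F) = 2 * 2 := by norm_num
    rw [this]; exact mul_ne_zero h2 h2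
  have hdisc : 4 - t ^ 2 ≠ 0 := fun h => ht (by linear_combination -h)
  let φ : Option {m : F // m ^ 2 + t * m + 1 ≠ 0} →
      {p : F × F // p.1 ^ 2 + t * p.1 * p.2 + p.2 ^ 2 = 1} := fun o =>
    match o with
    | none => ⟨(-1, 0), by ring⟩
    | some m => ⟨conicPt t m.1, conicPt_mem t m.1 m.2⟩
  have hinj : Function.Injective φ := by
    rintro (_ | ⟨m, hm⟩) (_ | ⟨m', hm'⟩) h
    · rfl
    · exfalso
      have h1 := congrArg (fun p : {p : F × F // p.1 ^ 2 + t * p.1 * p.2 + p.2 ^ 2 = 1} => p.1.1) h
      have h3 := congrArg (fun p : {p : F × F // p.1 ^ 2 + t * p.1 * p.2 + p.2 ^ 2 = 1} => p.1.2) h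
      simp only [φ, conicPt] at h1 h3
      rw [← h3, mul_zero, add_zero] at h1
      apply h2
      linear_combination -h1
    · exfalso
      have h1 := congrArg (fun p : {p : F × F // p.1 ^ 2 + t * p.1 * p.2 + p.2 ^ 2 = 1} => p.1.1) h
      have h3 := congrArg (fun p : {p : F × F // p.1 ^ 2 + t * p.1 * p.2 + p.2 ^ 2 = 1} => p.1.2) h
      simp only [φ, conicPt] at h1 h3
      rw [h3, mul_zero, add_zero] at h1
      apply h2
      linear_combination h1
    · have h1 := congrArg (fun p : {p : F × F // p.1 ^ 2 + t * p.1 * p.2 + p.2 ^ 2 = 1} => p.1.1) h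
      have h3 := congrArg (fun p : {p : F × F // p.1 ^ 2 + t * p.1 * p.2 + p.2 ^ 2 = 1} => p.1.2) h
      simp only [φ, conicPt] at h1 h3
      rw [h3] at h1
      have hmm : m = m' := by
        by_cases hs : -(2 * m' + t) / (m' ^ 2 + t * m' + 1) = 0
        · have e1 : 2 * m' + t = 0 := by
            rw [div_eq_zero_iff] at hs
            rcases hs with hs | hs
            · linear_combination -hs
            · exact absurd hs hm'
          rw [hs] at h3
          have e2 : 2 * m + t = 0 := by
            rw [div_eq_zero_iff] at h3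
            rcases h3 with hs | hs
            · linear_combination -hs
            · exact absurd hs hm
          have : 2 * (m - m') = 0 := by linear_combination e2 - e1
          have := (mul_eq_zero.mp this).resolve_left h2
          linear_combination this
        · have : (m - m') * (-(2 * m' + t) / (m' ^ 2 + t * m' + 1)) = 0 := by
            linear_combination h1
          have := (mul_eq_zero.mp this).resolve_right hs
          linear_combination this
      subst hmm
      rfl
  have hsurj : Function.Surjective φ := by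
    rintro ⟨⟨x, y⟩, hp⟩
    simp only at hp
    by_cases hy : y = 0
    · subst hy
      have hx : (x - 1) * (x + 1) = 0 := by linear_combination hp
      rcases mul_eq_zero.mp hx with hx | hx
      · have hm : (-t / 2) ^ 2 + t * (-t / 2) + 1 ≠ 0 := by
          intro h
          apply hdisc
          field_simp at h
          linear_combination h
        refine ⟨some ⟨-t / 2, hm⟩, ?_⟩
        apply Subtype.ext
        simp only [φ, conicPt]
        have e : 2 * (-t / 2) + t = 0 := by field_simp; ring
        rw [e, neg_zero, zero_div, mul_zero, add_zero]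
        rw [Prod.mk.injEq]
        exact ⟨by linear_combination -hx, rfl⟩
      · refine ⟨none, ?_⟩
        apply Subtype.ext
        simp only [φ]
        rw [Prod.mk.injEq]
        exact ⟨by linear_combination -hx, rfl⟩
    · have hW : 2 - 2 * x - t * y ≠ 0 := by
        intro hW
        have hx : x = 1 - t * y / 2 := by field_simp; linear_combination -hW
        rw [hx] at hp
        have : y ^ 2 * (4 - t ^ 2) = 0 := by
          field_simp at hp
          linear_combination hp
        rcases mul_eq_zero.mp this with h | h
        · exact hy (pow_eq_zero_iff (two_ne_zero) |>.mp h)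
        · exact hdisc h
      have hD : ((x - 1) / y) ^ 2 + t * ((x - 1) / y) + 1 = (2 - 2 * x - t * y) / y ^ 2 := by
        field_simp
        linear_combination hp
      have hm : ((x - 1) / y) ^ 2 + t * ((x - 1) / y) + 1 ≠ 0 := by
        rw [hD]
        exact div_ne_zero hW (pow_ne_zero 2 hy)
      refine ⟨some ⟨(x - 1) / y, hm⟩, ?_⟩
      apply Subtype.ext
      simp only [φ, conicPt]
      rw [hD]
      have e1 : -(2 * ((x - 1) / y) + t) = (2 - 2 * x - t * y) / y := by
        field_simp
        ring
      have hs : -(2 * ((x - 1) / y) + t) / ((2 - 2 * x - t * y) / y ^ 2) = y := by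
        rw [e1]
        generalize 2 - 2 * x - t * y = W at hW
        field_simp
      rw [hs, Prod.mk.injEq]
      exact ⟨by field_simp; ring, rfl⟩
  have hcard := Nat.card_congr (Equiv.ofBijective φ ⟨hinj, hsurj⟩)
  rw [← hcard, Nat.card_eq_fintype_card, Fintype.card_option, Nat.card_eq_fintype_card]
  have hsplit := Fintype.card_subtype_compl (fun m : F => m ^ 2 + t * m + 1 = 0)
  have hle := Fintype.card_subtype_le (fun m : F => m ^ 2 + t * m + 1 = 0)
  have e : Fintype.card {m : F // m ^ 2 + t * m + 1 ≠ 0} =
      Fintype.card {m : F // ¬ (m ^ 2 + t * m + 1 = 0)} := rfl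
  rw [e, hsplit]
  omega

/-- Non-split conic: `q + 1` points. -/
theorem card_conic_nonsplit [Fintype F] (t : F) (h2 : (2 : F) ≠ 0) (ht : ¬ IsSquare (t ^ 2 - 4)) :
    Nat.card {p : F × F // p.1 ^ 2 + t * p.1 * p.2 + p.2 ^ 2 = 1} = Fintype.card F + 1 := by
  have ht4 : t ^ 2 ≠ 4 := by
    intro h
    apply ht
    rw [h, sub_self]
    exact IsSquare.zero
  have h1 := card_conic t h2 ht4
  have h0 : Nat.card {m : F // m ^ 2 + t * m + 1 = 0} = 0 := by
    have : IsEmpty {m : F // m ^ 2 + t * m + 1 = 0} := by
      constructor
      rintro ⟨m, hm⟩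
      apply ht
      refine ⟨2 * m + t, ?_⟩
      linear_combination (-4 : F) * hm
    exact Nat.card_of_isEmpty
  rw [h0, add_zero] at h1
  exact h1

/-- Split conic: `q - 1` points. -/
theorem card_conic_split [Fintype F] (t r : F) (h2 : (2 : F) ≠ 0) (hr : t ^ 2 - 4 = r ^ 2)
    (hr0 : r ≠ 0) :
    Nat.card {p : F × F // p.1 ^ 2 + t * p.1 * p.2 + p.2 ^ 2 = 1} = Fintype.card F - 1 := by
  have ht4 : t ^ 2 ≠ 4 := by
    intro h
    apply hr0
    rw [h, sub_self] at hr
    exact pow_eq_zero_iff (two_ne_zero) |>.mp hr.symm
  have h1 := card_conic t h2 ht4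
  have h0 : Nat.card {m : F // m ^ 2 + t * m + 1 = 0} = 2 := by
    have hset : {m : F | m ^ 2 + t * m + 1 = 0} = {(-t + r) / 2, (-t - r) / 2} := by
      ext m
      simp only [Set.mem_ofPred_eq, Set.mem_insert_iff, Set.mem_singleton_iff]
      constructor
      · intro hm
        have : (2 * m + t - r) * (2 * m + t + r) = 0 := by
          linear_combination (4 : F) * hm + hr
        rcases mul_eq_zero.mp this with h | h
        · left
          field_simp
          linear_combination h
        · right
          field_simp
          linear_combination h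
      · rintro (rfl | rfl)
        · field_simp
          linear_combination -hr
        · field_simp
          linear_combination -hr
    have hne : (-t + r) / 2 ≠ (-t - r) / 2 := by
      intro h
      apply hr0
      field_simp at h
      have : 2 * r = 0 := by linear_combination h
      exact (mul_eq_zero.mp this).resolve_left h2
    change Nat.card ↥{m : F | m ^ 2 + t * m + 1 = 0} = 2
    rw [Nat.card_coe_set_eq, hset, Set.ncard_pair hne]
  rw [h0] at h1
  omega

end Conic

end Cfsg.Agent.Lib.Helper16
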