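import Mathlib

set_option autoImplicit false

namespace Cfsg.Agent.Lib.Helper16

theorem natCard_subtype_eq_filter {α : Type*} [Fintype α] (p : α → Prop) [DecidablePred p] :
    Nat.card {x // p x} = (Finset.univ.filter p).card := by
  rw [Nat.card_eq_fintype_card, Fintype.card_subtype]

/-- The class number of a finite group with an abelian subgroup `T` of index two which is inverted
by every element outside `T` and has exactly two elements of square one. -/
theorem card_conjClasses_of_inverting {G : Type*} [Group G] [Finite G] (T : Subgroup G)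
    (hidx : T.index = 2)
    (hcomm : ∀ a ∈ T, ∀ b ∈ T, a * b = b * a)
    (hinv : ∀ n : G, n ∉ T → ∀ t ∈ T, n * t * n⁻¹ = t⁻¹)
    (hZ : Nat.card {t : G // t ∈ T ∧ t * t = 1} = 2) :
    Nat.card (ConjClasses G) * 2 = Nat.card T + 6 := by
  classical
  have := Fintype.ofFinite G
  have hG : Nat.card G = Nat.card T * 2 := by rw [← hidx]; exact (Subgroup.card_mul_index T).symm
  have hTpos : 0 < Nat.card T := Nat.card_pos
  have hc1 : ∀ g : G, g ∈ T → g * g = 1 → Nat.card {h : G // Commute g h} = Nat.card G := by
    intro g hg hgg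
    apply Nat.card_congr
    apply Equiv.subtypeUnivEquiv
    intro h
    by_cases hh : h ∈ T
    · exact hcomm g hg h hh
    · have h1 := hinv h hh g hg
      have h2 : g⁻¹ = g := inv_eq_of_mul_eq_one_left hgg
      rw [h2] at h1
      exact (mul_inv_eq_iff_eq_mul.mp h1).symm
  have hc2 : ∀ g : G, g ∈ T → g * g ≠ 1 → Nat.card {h : G // Commute g h} = Nat.card T := by
    intro g hg hgg
    apply Nat.card_congr
    apply Equiv.subtypeEquivRight
    intro h
    constructor
    · intro hc
      by_contra hh
      have h1 := hinv h hh g hg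
      have h2 : h * g * h⁻¹ = g := by
        rw [mul_inv_eq_iff_eq_mul]
        exact hc.eq.symm
      rw [h2] at h1
      apply hgg
      nth_rewrite 1 [h1]
      exact inv_mul_cancel g
    · intro hh
      exact hcomm g hg h hh
  have hc3 : ∀ g : G, g ∉ T → Nat.card {h : G // Commute g h} = 4 := by
    intro g hg
    have hginv : g⁻¹ ∉ T := fun h => hg (by simpa using T.inv_mem h)
    have key : ∀ h : G, Commute g h ↔
        ((h ∈ T ∧ h * h = 1) ∨ (g⁻¹ * h ∈ T ∧ (g⁻¹ * h) * (g⁻¹ * h) = 1)) := by
      intro h
      have hT : ∀ c : G, c ∈ T → (Commute g c ↔ c * c = 1) := by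
        intro c hc
        have h1 := hinv g hg c hc
        constructor
        · intro hcm
          have h2 : g * c * g⁻¹ = c := by
            rw [mul_inv_eq_iff_eq_mul]
            exact hcm.eq
          rw [h2] at h1
          nth_rewrite 1 [h1]
          exact inv_mul_cancel c
        · intro hcc
          have h2 : c⁻¹ = c := inv_eq_of_mul_eq_one_left hcc
          rw [h2] at h1
          exact mul_inv_eq_iff_eq_mul.mp h1
      by_cases hh : h ∈ T
      · rw [hT h hh]
        constructor
        · intro h1
          exact Or.inl ⟨hh, h1⟩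
        · rintro (h1 | h1)
          · exact h1.2
          · exfalso
            apply hginv
            have := T.mul_mem h1.1 (T.inv_mem hh)
            simpa using this
      · have hc : g⁻¹ * h ∈ T :=
          (Subgroup.mul_mem_iff_of_index_two hidx).mpr (iff_of_false hginv hh)
        have e : Commute g h ↔ Commute g (g⁻¹ * h) := by
          constructor
          · intro h1
            exact (Commute.refl g).inv_right.mul_right h1
          · intro h1
            have := (Commute.refl g).mul_right h1
            simpa using this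
        rw [e, hT _ hc]
        constructor
        · intro h1
          exact Or.inr ⟨hc, h1⟩
        · rintro (h1 | h1)
          · exact absurd h1.1 hh
          · exact h1.2
    rw [Nat.card_congr (Equiv.subtypeEquivRight key)]
    have hdis : Disjoint (fun h : G => h ∈ T ∧ h * h = 1)
        (fun h : G => g⁻¹ * h ∈ T ∧ (g⁻¹ * h) * (g⁻¹ * h) = 1) := by
      rw [Pi.disjoint_iff]
      intro h
      rw [disjoint_iff]
      apply le_antisymm _ bot_le
      rintro ⟨h1, h2⟩
      apply hginv
      have := T.mul_mem h2.1 (T.inv_mem h1.1)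
      simpa using this
    rw [Nat.card_congr (subtypeOrEquiv _ _ hdis), Nat.card_sum, hZ]
    have e2 : {h : G // g⁻¹ * h ∈ T ∧ (g⁻¹ * h) * (g⁻¹ * h) = 1} ≃ {t : G // t ∈ T ∧ t * t = 1} :=
      (Equiv.mulLeft g⁻¹).subtypeEquiv (fun h => Iff.rfl)
    rw [Nat.card_congr e2, hZ]
  have hsum : Nat.card {p : G × G // Commute p.1 p.2} = ∑ g : G, Nat.card {h : G // Commute g h} := by
    rw [Nat.card_congr (Equiv.subtypeProdEquivSigmaSubtype (fun a b : G => Commute a b)),
      Nat.card_sigma]
  have hval : ∀ g : G, Nat.card {h : G // Commute g h} =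
      (if g ∈ T then Nat.card T else 0) + (if g ∈ T ∧ g * g = 1 then Nat.card T else 0) +
        (if g ∉ T then 4 else 0) := by
    intro g
    by_cases hg : g ∈ T
    · by_cases hgg : g * g = 1
      · rw [hc1 g hg hgg, if_pos hg, if_pos ⟨hg, hgg⟩, if_neg (not_not.mpr hg), hG]
        omega
      · rw [hc2 g hg hgg, if_pos hg, if_neg (fun h => hgg h.2), if_neg (not_not.mpr hg)]
        omega
    · rw [hc3 g hg, if_neg hg, if_neg (fun h => hg h.1), if_pos hg]
  have hcT : (Finset.univ.filter (fun g : G => g ∈ T)).card = Nat.card T := by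
    rw [← natCard_subtype_eq_filter]
  have hcZ : (Finset.univ.filter (fun g : G => g ∈ T ∧ g * g = 1)).card = 2 := by
    rw [← natCard_subtype_eq_filter, hZ]
  have hcN : (Finset.univ.filter (fun g : G => g ∉ T)).card = Nat.card T := by
    have h1 := Finset.card_filter_add_card_filter_not (s := (Finset.univ : Finset G))
      (fun g : G => g ∈ T)
    rw [hcT, Finset.card_univ, ← Nat.card_eq_fintype_card, hG] at h1
    omega
  have htot : ∑ g : G, Nat.card {h : G // Commute g h} =
      Nat.card T * Nat.card T + 2 * Nat.card T + Nat.card T * 4 := by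
    rw [Finset.sum_congr rfl (fun g _ => hval g), Finset.sum_add_distrib, Finset.sum_add_distrib,
      ← Finset.sum_filter, ← Finset.sum_filter, ← Finset.sum_filter, Finset.sum_const,
      Finset.sum_const, Finset.sum_const, hcT, hcZ, hcN]
    simp only [smul_eq_mul]
  have h1 := card_comm_eq_card_conjClasses_mul_card G
  rw [hsum, htot, hG] at h1
  have h2 : Nat.card T * (Nat.card (ConjClasses G) * 2) = Nat.card T * (Nat.card T + 6) := by
    linarith
  exact Nat.eq_of_mul_eq_mul_left hTpos h2

/-- Relative version: `T ≤ N` subgroups of an ambient group, `N = T ⊔ wT`, every element of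
`N` outside `T` inverts the abelian group `T`, and `T` has exactly two elements of square one. -/
theorem card_conjClasses_of_inverting_rel {G : Type*} [Group G] [Finite G] (N T : Subgroup G)
    (hTN : T ≤ N) (w : G) (hwN : w ∈ N) (hwT : w ∉ T)
    (hsplit : ∀ n ∈ N, n ∈ T ∨ w⁻¹ * n ∈ T)
    (hcomm : ∀ a ∈ T, ∀ b ∈ T, a * b = b * a)
    (hinv : ∀ n ∈ N, n ∉ T → ∀ t ∈ T, n * t * n⁻¹ = t⁻¹)
    (hZ : Nat.card {t : G // t ∈ T ∧ t * t = 1} = 2) :
    Nat.card N = 2 * Nat.card T ∧ Nat.card (ConjClasses N) * 2 = Nat.card T + 6 := by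
  have hidx : (T.subgroupOf N).index = 2 := by
    rw [Subgroup.index_eq_two_iff_exists_notMem_and']
    refine ⟨⟨w⁻¹, N.inv_mem hwN⟩, ?_, ?_⟩
    · rw [Subgroup.mem_subgroupOf]
      intro h
      apply hwT
      have := T.inv_mem h
      simpa using this
    · intro b
      rw [Subgroup.mem_subgroupOf, Subgroup.mem_subgroupOf]
      rcases hsplit b.1 b.2 with h | h
      · exact Or.inr h
      · exact Or.inl h
  have hcard : Nat.card (T.subgroupOf N) = Nat.card T :=
    Nat.card_congr (Subgroup.subgroupOfEquivOfLe hTN).toEquiv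
  have hZ' : Nat.card {t : N // t ∈ T.subgroupOf N ∧ t * t = 1} = 2 := by
    rw [← hZ]
    apply Nat.card_congr
    refine ⟨fun t => ⟨t.1.1, Subgroup.mem_subgroupOf.mp t.2.1, ?_⟩,
      fun t => ⟨⟨t.1, hTN t.2.1⟩, Subgroup.mem_subgroupOf.mpr t.2.1, ?_⟩, ?_, ?_⟩
    · have := congrArg Subtype.val t.2.2
      simpa using this
    · apply Subtype.ext
      exact t.2.2
    · intro t
      rfl
    · intro t
      rfl
  have h1 := card_conjClasses_of_inverting (T.subgroupOf N) hidx
    (fun a ha b hb => Subtype.ext (hcomm a.1 (Subgroup.mem_subgroupOf.mp ha) b.1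
      (Subgroup.mem_subgroupOf.mp hb)))
    (fun n hn t ht => Subtype.ext (by
      have := hinv n.1 n.2 (fun h => hn (Subgroup.mem_subgroupOf.mpr h)) t.1
        (Subgroup.mem_subgroupOf.mp ht)
      simpa using this)) hZ'
  rw [hcard] at h1
  refine ⟨?_, h1⟩
  have h2 := Subgroup.card_mul_index (T.subgroupOf N)
  rw [hidx, hcard] at h2
  omega

end Cfsg.Agent.Lib.Helper16
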