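import Mathlib
import Cfsg.Agent.Lib.Helper16.DihedralCount

set_option autoImplicit false

namespace Cfsg.Agent.Lib.Helper16

open Matrix

section Basic

variable {F : Type*} [Field F]

theorem sl2_det_eq (g : Matrix.SpecialLinearGroup (Fin 2) F) :
    (g : Matrix (Fin 2) (Fin 2) F) 0 0 * (g : Matrix (Fin 2) (Fin 2) F) 1 1 -
      (g : Matrix (Fin 2) (Fin 2) F) 0 1 * (g : Matrix (Fin 2) (Fin 2) F) 1 0 = 1 := by
  have := g.det_coe
  rwa [Matrix.det_fin_two] at this

theorem sl2_mul_entry (g h : Matrix.SpecialLinearGroup (Fin 2) F) (i j : Fin 2) :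
    ((g * h : Matrix.SpecialLinearGroup (Fin 2) F) : Matrix (Fin 2) (Fin 2) F) i j =
      (g : Matrix (Fin 2) (Fin 2) F) i 0 * (h : Matrix (Fin 2) (Fin 2) F) 0 j +
        (g : Matrix (Fin 2) (Fin 2) F) i 1 * (h : Matrix (Fin 2) (Fin 2) F) 1 j := by
  rw [Matrix.SpecialLinearGroup.coe_mul, Matrix.mul_apply, Fin.sum_univ_two]

theorem sl2_inv_00 (g : Matrix.SpecialLinearGroup (Fin 2) F) :
    ((g⁻¹ : Matrix.SpecialLinearGroup (Fin 2) F) : Matrix (Fin 2) (Fin 2) F) 0 0 =
      (g : Matrix (Fin 2) (Fin 2) F) 1 1 := by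
  rw [Matrix.SpecialLinearGroup.coe_inv, Matrix.adjugate_fin_two]; simp

theorem sl2_inv_01 (g : Matrix.SpecialLinearGroup (Fin 2) F) :
    ((g⁻¹ : Matrix.SpecialLinearGroup (Fin 2) F) : Matrix (Fin 2) (Fin 2) F) 0 1 =
      -(g : Matrix (Fin 2) (Fin 2) F) 0 1 := by
  rw [Matrix.SpecialLinearGroup.coe_inv, Matrix.adjugate_fin_two]; simp

theorem sl2_inv_10 (g : Matrix.SpecialLinearGroup (Fin 2) F) :
    ((g⁻¹ : Matrix.SpecialLinearGroup (Fin 2) F) : Matrix (Fin 2) (Fin 2) F) 1 0 =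
      -(g : Matrix (Fin 2) (Fin 2) F) 1 0 := by
  rw [Matrix.SpecialLinearGroup.coe_inv, Matrix.adjugate_fin_two]; simp

theorem sl2_inv_11 (g : Matrix.SpecialLinearGroup (Fin 2) F) :
    ((g⁻¹ : Matrix.SpecialLinearGroup (Fin 2) F) : Matrix (Fin 2) (Fin 2) F) 1 1 =
      (g : Matrix (Fin 2) (Fin 2) F) 0 0 := by
  rw [Matrix.SpecialLinearGroup.coe_inv, Matrix.adjugate_fin_two]; simp

theorem sl2_ext (g h : Matrix.SpecialLinearGroup (Fin 2) F)
    (h00 : (g : Matrix (Fin 2) (Fin 2) F) 0 0 = (h : Matrix (Fin 2) (Fin 2) F) 0 0)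
    (h01 : (g : Matrix (Fin 2) (Fin 2) F) 0 1 = (h : Matrix (Fin 2) (Fin 2) F) 0 1)
    (h10 : (g : Matrix (Fin 2) (Fin 2) F) 1 0 = (h : Matrix (Fin 2) (Fin 2) F) 1 0)
    (h11 : (g : Matrix (Fin 2) (Fin 2) F) 1 1 = (h : Matrix (Fin 2) (Fin 2) F) 1 1) : g = h := by
  apply Subtype.ext
  ext i j
  fin_cases i <;> fin_cases j <;> assumption

theorem sl2_conj_00 (g h : Matrix.SpecialLinearGroup (Fin 2) F) :
    ((g * h * g⁻¹ : Matrix.SpecialLinearGroup (Fin 2) F) : Matrix (Fin 2) (Fin 2) F) 0 0 =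
      ((g : Matrix (Fin 2) (Fin 2) F) 0 0 * (h : Matrix (Fin 2) (Fin 2) F) 0 0 +
        (g : Matrix (Fin 2) (Fin 2) F) 0 1 * (h : Matrix (Fin 2) (Fin 2) F) 1 0) *
        (g : Matrix (Fin 2) (Fin 2) F) 1 1 -
      ((g : Matrix (Fin 2) (Fin 2) F) 0 0 * (h : Matrix (Fin 2) (Fin 2) F) 0 1 +
        (g : Matrix (Fin 2) (Fin 2) F) 0 1 * (h : Matrix (Fin 2) (Fin 2) F) 1 1) *
        (g : Matrix (Fin 2) (Fin 2) F) 1 0 := by
  rw [sl2_mul_entry, sl2_mul_entry, sl2_mul_entry, sl2_inv_00, sl2_inv_10]; ring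

theorem sl2_conj_01 (g h : Matrix.SpecialLinearGroup (Fin 2) F) :
    ((g * h * g⁻¹ : Matrix.SpecialLinearGroup (Fin 2) F) : Matrix (Fin 2) (Fin 2) F) 0 1 =
      ((g : Matrix (Fin 2) (Fin 2) F) 0 0 * (h : Matrix (Fin 2) (Fin 2) F) 0 1 +
        (g : Matrix (Fin 2) (Fin 2) F) 0 1 * (h : Matrix (Fin 2) (Fin 2) F) 1 1) *
        (g : Matrix (Fin 2) (Fin 2) F) 0 0 -
      ((g : Matrix (Fin 2) (Fin 2) F) 0 0 * (h : Matrix (Fin 2) (Fin 2) F) 0 0 +
        (g : Matrix (Fin 2) (Fin 2) F) 0 1 * (h : Matrix (Fin 2) (Fin 2) F) 1 0) *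
        (g : Matrix (Fin 2) (Fin 2) F) 0 1 := by
  rw [sl2_mul_entry, sl2_mul_entry, sl2_mul_entry, sl2_inv_01, sl2_inv_11]; ring

theorem sl2_conj_10 (g h : Matrix.SpecialLinearGroup (Fin 2) F) :
    ((g * h * g⁻¹ : Matrix.SpecialLinearGroup (Fin 2) F) : Matrix (Fin 2) (Fin 2) F) 1 0 =
      ((g : Matrix (Fin 2) (Fin 2) F) 1 0 * (h : Matrix (Fin 2) (Fin 2) F) 0 0 +
        (g : Matrix (Fin 2) (Fin 2) F) 1 1 * (h : Matrix (Fin 2) (Fin 2) F) 1 0) *
        (g : Matrix (Fin 2) (Fin 2) F) 1 1 -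
      ((g : Matrix (Fin 2) (Fin 2) F) 1 0 * (h : Matrix (Fin 2) (Fin 2) F) 0 1 +
        (g : Matrix (Fin 2) (Fin 2) F) 1 1 * (h : Matrix (Fin 2) (Fin 2) F) 1 1) *
        (g : Matrix (Fin 2) (Fin 2) F) 1 0 := by
  rw [sl2_mul_entry, sl2_mul_entry, sl2_mul_entry, sl2_inv_00, sl2_inv_10]; ring

theorem sl2_conj_11 (g h : Matrix.SpecialLinearGroup (Fin 2) F) :
    ((g * h * g⁻¹ : Matrix.SpecialLinearGroup (Fin 2) F) : Matrix (Fin 2) (Fin 2) F) 1 1 =
      ((g : Matrix (Fin 2) (Fin 2) F) 1 0 * (h : Matrix (Fin 2) (Fin 2) F) 0 1 +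
        (g : Matrix (Fin 2) (Fin 2) F) 1 1 * (h : Matrix (Fin 2) (Fin 2) F) 1 1) *
        (g : Matrix (Fin 2) (Fin 2) F) 0 0 -
      ((g : Matrix (Fin 2) (Fin 2) F) 1 0 * (h : Matrix (Fin 2) (Fin 2) F) 0 0 +
        (g : Matrix (Fin 2) (Fin 2) F) 1 1 * (h : Matrix (Fin 2) (Fin 2) F) 1 0) *
        (g : Matrix (Fin 2) (Fin 2) F) 0 1 := by
  rw [sl2_mul_entry, sl2_mul_entry, sl2_mul_entry, sl2_inv_01, sl2_inv_11]; ring

/-- The diagonal torus of `SL₂`. -/
def diagT (F : Type*) [Field F] : Subgroup (Matrix.SpecialLinearGroup (Fin 2) F) where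
  carrier := {g | (g : Matrix (Fin 2) (Fin 2) F) 0 1 = 0 ∧ (g : Matrix (Fin 2) (Fin 2) F) 1 0 = 0}
  one_mem' := by simp
  mul_mem' := by
    rintro a b ⟨ha1, ha2⟩ ⟨hb1, hb2⟩
    refine ⟨?_, ?_⟩
    · rw [sl2_mul_entry, ha1, hb1]; ring
    · rw [sl2_mul_entry, ha2, hb2]; ring
  inv_mem' := by
    rintro a ⟨ha1, ha2⟩
    refine ⟨?_, ?_⟩
    · rw [sl2_inv_01, ha1, neg_zero]
    · rw [sl2_inv_10, ha2, neg_zero]

theorem mem_diagT (g : Matrix.SpecialLinearGroup (Fin 2) F) :
    g ∈ diagT F ↔ ((g : Matrix (Fin 2) (Fin 2) F) 0 1 = 0 ∧ (g : Matrix (Fin 2) (Fin 2) F) 1 0 = 0) :=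
  Iff.rfl

/-- The diagonal element with entries `u`, `u⁻¹`. -/
def diagS (u : Fˣ) : Matrix.SpecialLinearGroup (Fin 2) F :=
  ⟨!![(u : F), 0; 0, ((u⁻¹ : Fˣ) : F)], by simp [Matrix.det_fin_two_of]⟩

theorem diagS_val (u : Fˣ) :
    (diagS u : Matrix (Fin 2) (Fin 2) F) = !![(u : F), 0; 0, ((u⁻¹ : Fˣ) : F)] := rfl

theorem diagS_mem (u : Fˣ) : diagS u ∈ diagT F := by
  rw [mem_diagT, diagS_val]; simp

/-- The Weyl element. -/
def weylW (F : Type*) [Field F] : Matrix.SpecialLinearGroup (Fin 2) F :=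
  ⟨!![0, 1; -1, 0], by simp [Matrix.det_fin_two_of]⟩

theorem weylW_val : (weylW F : Matrix (Fin 2) (Fin 2) F) = !![0, 1; -1, 0] := rfl

/-- The diagonal torus is isomorphic to the unit group. -/
def diagEquiv (F : Type*) [Field F] : Fˣ ≃* diagT F where
  toFun u := ⟨diagS u, diagS_mem u⟩
  invFun t := ⟨(t.1 : Matrix (Fin 2) (Fin 2) F) 0 0, (t.1 : Matrix (Fin 2) (Fin 2) F) 1 1, by
    have h := sl2_det_eq t.1
    rw [t.2.1, zero_mul, sub_zero] at h
    exact h, by
    have h := sl2_det_eq t.1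
    rw [t.2.1, zero_mul, sub_zero] at h
    rw [mul_comm]; exact h⟩
  left_inv u := by
    apply Units.ext
    simp [diagS_val]
  right_inv t := by
    apply Subtype.ext
    have h := sl2_det_eq t.1
    rw [t.2.1, zero_mul, sub_zero] at h
    apply sl2_ext
    · simp [diagS_val]
    · simp [diagS_val, t.2.1]
    · simp [diagS_val, t.2.2]
    · simp only [diagS_val]
      rw [Units.val_inv_eq_inv_val]
      rw [inv_eq_of_mul_eq_one_right h]
      simp
  map_mul' u v := by
    apply Subtype.ext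
    apply sl2_ext
    · simp [sl2_mul_entry, diagS_val]
    · simp [sl2_mul_entry, diagS_val]
    · simp [sl2_mul_entry, diagS_val]
    · simp [sl2_mul_entry, diagS_val, mul_comm]

theorem card_diagT [Fintype F] : Nat.card (diagT F) = Fintype.card F - 1 := by
  classical
  rw [← Nat.card_congr (diagEquiv F).toEquiv, Nat.card_eq_fintype_card, Fintype.card_units]

theorem isCyclic_diagT [Finite F] : IsCyclic (diagT F) := by
  have : IsCyclic Fˣ := inferInstance
  exact isCyclic_of_surjective (diagEquiv F) (diagEquiv F).surjective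

theorem diagT_comm (a b : Matrix.SpecialLinearGroup (Fin 2) F) (ha : a ∈ diagT F) (hb : b ∈ diagT F) :
    a * b = b * a := by
  obtain ⟨ha1, ha2⟩ := ha
  obtain ⟨hb1, hb2⟩ := hb
  apply sl2_ext <;> simp only [sl2_mul_entry, ha1, ha2, hb1, hb2] <;> ring

/-- The centralizer of a diagonal element with distinct eigenvalues is the diagonal torus. -/
theorem centralizer_diag (d : Matrix.SpecialLinearGroup (Fin 2) F)
    (hd01 : (d : Matrix (Fin 2) (Fin 2) F) 0 1 = 0) (hd10 : (d : Matrix (Fin 2) (Fin 2) F) 1 0 = 0)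
    (hda : (d : Matrix (Fin 2) (Fin 2) F) 0 0 ^ 2 ≠ 1) :
    Subgroup.centralizer ({d} : Set (Matrix.SpecialLinearGroup (Fin 2) F)) = diagT F := by
  have hdet := sl2_det_eq d
  rw [hd01, zero_mul, sub_zero] at hdet
  have hne : (d : Matrix (Fin 2) (Fin 2) F) 0 0 - (d : Matrix (Fin 2) (Fin 2) F) 1 1 ≠ 0 := by
    intro h
    apply hda
    have h' : (d : Matrix (Fin 2) (Fin 2) F) 1 1 = (d : Matrix (Fin 2) (Fin 2) F) 0 0 := by
      linear_combination -h
    rw [h'] at hdet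
    rw [pow_two]; exact hdet
  ext g
  rw [Subgroup.mem_centralizer_iff, mem_diagT]
  constructor
  · intro h
    have h1 := h d (Set.mem_singleton d)
    have e01 := congrArg (fun m : Matrix.SpecialLinearGroup (Fin 2) F =>
      (m : Matrix (Fin 2) (Fin 2) F) 0 1) h1
    have e10 := congrArg (fun m : Matrix.SpecialLinearGroup (Fin 2) F =>
      (m : Matrix (Fin 2) (Fin 2) F) 1 0) h1
    simp only [sl2_mul_entry, hd01, hd10] at e01 e10
    constructor
    · have : ((d : Matrix (Fin 2) (Fin 2) F) 0 0 - (d : Matrix (Fin 2) (Fin 2) F) 1 1) *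
          (g : Matrix (Fin 2) (Fin 2) F) 0 1 = 0 := by linear_combination e01
      exact (mul_eq_zero.mp this).resolve_left hne
    · have : ((d : Matrix (Fin 2) (Fin 2) F) 0 0 - (d : Matrix (Fin 2) (Fin 2) F) 1 1) *
          (g : Matrix (Fin 2) (Fin 2) F) 1 0 = 0 := by linear_combination -e10
      exact (mul_eq_zero.mp this).resolve_left hne
  · rintro hg h hh
    rw [Set.mem_singleton_iff] at hh
    subst hh
    exact diagT_comm h g ⟨hd01, hd10⟩ hg

/-- Membership in the normalizer of the diagonal torus (given a regular element). -/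
theorem mem_normalizer_diagT (d : Matrix.SpecialLinearGroup (Fin 2) F)
    (hd01 : (d : Matrix (Fin 2) (Fin 2) F) 0 1 = 0) (hd10 : (d : Matrix (Fin 2) (Fin 2) F) 1 0 = 0)
    (hda : (d : Matrix (Fin 2) (Fin 2) F) 0 0 ^ 2 ≠ 1) (g : Matrix.SpecialLinearGroup (Fin 2) F) :
    g ∈ Subgroup.normalizer ((diagT F : Subgroup (Matrix.SpecialLinearGroup (Fin 2) F)) :
      Set (Matrix.SpecialLinearGroup (Fin 2) F)) ↔
      (g ∈ diagT F ∨ ((g : Matrix (Fin 2) (Fin 2) F) 0 0 = 0 ∧ (g : Matrix (Fin 2) (Fin 2) F) 1 1 = 0)) := by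
  have hdet := sl2_det_eq d
  rw [hd01, zero_mul, sub_zero] at hdet
  have hne : (d : Matrix (Fin 2) (Fin 2) F) 0 0 - (d : Matrix (Fin 2) (Fin 2) F) 1 1 ≠ 0 := by
    intro h
    apply hda
    have h' : (d : Matrix (Fin 2) (Fin 2) F) 1 1 = (d : Matrix (Fin 2) (Fin 2) F) 0 0 := by
      linear_combination -h
    rw [h'] at hdet
    rw [pow_two]; exact hdet
  have hg := sl2_det_eq g
  rw [Subgroup.mem_normalizer_iff]
  constructor
  · intro h
    have h1 := (h d).mp ⟨hd01, hd10⟩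
    obtain ⟨e01, e10⟩ := h1
    rw [sl2_conj_01, hd01, hd10] at e01
    rw [sl2_conj_10, hd01, hd10] at e10
    have p1 : (g : Matrix (Fin 2) (Fin 2) F) 0 0 * (g : Matrix (Fin 2) (Fin 2) F) 0 1 = 0 := by
      have : ((d : Matrix (Fin 2) (Fin 2) F) 0 0 - (d : Matrix (Fin 2) (Fin 2) F) 1 1) *
          ((g : Matrix (Fin 2) (Fin 2) F) 0 0 * (g : Matrix (Fin 2) (Fin 2) F) 0 1) = 0 := by
        linear_combination -e01
      exact (mul_eq_zero.mp this).resolve_left hne
    have p2 : (g : Matrix (Fin 2) (Fin 2) F) 1 0 * (g : Matrix (Fin 2) (Fin 2) F) 1 1 = 0 := by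
      have : ((d : Matrix (Fin 2) (Fin 2) F) 0 0 - (d : Matrix (Fin 2) (Fin 2) F) 1 1) *
          ((g : Matrix (Fin 2) (Fin 2) F) 1 0 * (g : Matrix (Fin 2) (Fin 2) F) 1 1) = 0 := by
        linear_combination e10
      exact (mul_eq_zero.mp this).resolve_left hne
    rcases mul_eq_zero.mp p1 with h00 | h01
    · right
      refine ⟨h00, ?_⟩
      rcases mul_eq_zero.mp p2 with h10 | h11
      · exfalso
        rw [h00, h10] at hg
        simp at hg
      · exact h11
    · left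
      refine ⟨h01, ?_⟩
      rcases mul_eq_zero.mp p2 with h10 | h11
      · exact h10
      · exfalso
        rw [h01, h11] at hg
        simp at hg
  · rintro (⟨h01, h10⟩ | ⟨h00, h11⟩)
    · intro h
      rw [mem_diagT, mem_diagT, sl2_conj_01, sl2_conj_10, h01, h10]
      rw [h01, zero_mul, sub_zero] at hg
      have n0 : (g : Matrix (Fin 2) (Fin 2) F) 0 0 ≠ 0 := left_ne_zero_of_mul_eq_one hg
      have n1 : (g : Matrix (Fin 2) (Fin 2) F) 1 1 ≠ 0 := right_ne_zero_of_mul_eq_one hg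
      constructor
      · rintro ⟨a, b⟩
        rw [a, b]
        constructor <;> ring
      · rintro ⟨a, b⟩
        constructor
        · have : (g : Matrix (Fin 2) (Fin 2) F) 0 0 * (g : Matrix (Fin 2) (Fin 2) F) 0 0 *
              (h : Matrix (Fin 2) (Fin 2) F) 0 1 = 0 := by linear_combination a
          exact (mul_eq_zero.mp this).resolve_left (mul_ne_zero n0 n0)
        · have : (g : Matrix (Fin 2) (Fin 2) F) 1 1 * (g : Matrix (Fin 2) (Fin 2) F) 1 1 *
              (h : Matrix (Fin 2) (Fin 2) F) 1 0 = 0 := by linear_combination b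
          exact (mul_eq_zero.mp this).resolve_left (mul_ne_zero n1 n1)
    · intro h
      rw [mem_diagT, mem_diagT, sl2_conj_01, sl2_conj_10, h00, h11]
      rw [h00, zero_mul, zero_sub] at hg
      have hg' : (g : Matrix (Fin 2) (Fin 2) F) 0 1 * (-(g : Matrix (Fin 2) (Fin 2) F) 1 0) = 1 := by
        linear_combination hg
      have n0 : (g : Matrix (Fin 2) (Fin 2) F) 0 1 ≠ 0 := left_ne_zero_of_mul_eq_one hg'
      have n1 : (g : Matrix (Fin 2) (Fin 2) F) 1 0 ≠ 0 := by
        have := right_ne_zero_of_mul_eq_one hg'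
        exact neg_ne_zero.mp this
      constructor
      · rintro ⟨a, b⟩
        rw [a, b]
        constructor <;> ring
      · rintro ⟨a, b⟩
        constructor
        · have : (g : Matrix (Fin 2) (Fin 2) F) 1 0 * (g : Matrix (Fin 2) (Fin 2) F) 1 0 *
              (h : Matrix (Fin 2) (Fin 2) F) 0 1 = 0 := by linear_combination -b
          exact (mul_eq_zero.mp this).resolve_left (mul_ne_zero n1 n1)
        · have : (g : Matrix (Fin 2) (Fin 2) F) 0 1 * (g : Matrix (Fin 2) (Fin 2) F) 0 1 *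
              (h : Matrix (Fin 2) (Fin 2) F) 1 0 = 0 := by linear_combination -a
          exact (mul_eq_zero.mp this).resolve_left (mul_ne_zero n0 n0)

end Basic

section Count

variable {F : Type*} [Field F]

theorem sq_of_antidiag (g : Matrix.SpecialLinearGroup (Fin 2) F)
    (h00 : (g : Matrix (Fin 2) (Fin 2) F) 0 0 = 0) (h11 : (g : Matrix (Fin 2) (Fin 2) F) 1 1 = 0) :
    ((g * g : Matrix.SpecialLinearGroup (Fin 2) F) : Matrix (Fin 2) (Fin 2) F) = -1 := by
  have hg := sl2_det_eq g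
  rw [h00, zero_mul, zero_sub] at hg
  ext i j
  fin_cases i <;> fin_cases j
  · simp only [Fin.zero_eta, sl2_mul_entry, h00]
    simp
    linear_combination -hg
  · simp only [Fin.zero_eta, Fin.mk_one, sl2_mul_entry, h00, h11]
    simp
  · simp only [Fin.zero_eta, Fin.mk_one, sl2_mul_entry, h00, h11]
    simp
  · simp only [Fin.mk_one, sl2_mul_entry, h11]
    simp
    linear_combination -hg

theorem card_sq_one_diagT (h2 : (2 : F) ≠ 0) :
    Nat.card {t : Matrix.SpecialLinearGroup (Fin 2) F // t ∈ diagT F ∧ t * t = 1} = 2 := by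
  have hset : {t : Matrix.SpecialLinearGroup (Fin 2) F | t ∈ diagT F ∧ t * t = 1} = {1, -1} := by
    ext t
    simp only [Set.mem_ofPred_eq, Set.mem_insert_iff, Set.mem_singleton_iff]
    constructor
    · rintro ⟨⟨h01, h10⟩, htt⟩
      have hdet := sl2_det_eq t
      rw [h01, zero_mul, sub_zero] at hdet
      have e00 := congrArg (fun m : Matrix.SpecialLinearGroup (Fin 2) F =>
        (m : Matrix (Fin 2) (Fin 2) F) 0 0) htt
      simp only [sl2_mul_entry, h01, zero_mul, add_zero, Matrix.SpecialLinearGroup.coe_one,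
        Matrix.one_apply_eq] at e00
      have hfac : ((t : Matrix (Fin 2) (Fin 2) F) 0 0 - 1) * ((t : Matrix (Fin 2) (Fin 2) F) 0 0 + 1) = 0 := by
        linear_combination e00
      rcases mul_eq_zero.mp hfac with h | h
      · left
        have h00 : (t : Matrix (Fin 2) (Fin 2) F) 0 0 = 1 := by linear_combination h
        rw [h00, one_mul] at hdet
        apply sl2_ext <;> simp [h00, h01, h10, hdet]
      · right
        have h00 : (t : Matrix (Fin 2) (Fin 2) F) 0 0 = -1 := by linear_combination h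
        rw [h00] at hdet
        have h11 : (t : Matrix (Fin 2) (Fin 2) F) 1 1 = -1 := by linear_combination -hdet
        apply sl2_ext <;> simp [h00, h01, h10, h11]
    · rintro (rfl | rfl)
      · exact ⟨(diagT F).one_mem, one_mul 1⟩
      · refine ⟨?_, by simp⟩
        rw [mem_diagT]
        simp
  have hne : (1 : Matrix.SpecialLinearGroup (Fin 2) F) ≠ -1 := by
    intro h
    have e00 := congrArg (fun m : Matrix.SpecialLinearGroup (Fin 2) F =>
      (m : Matrix (Fin 2) (Fin 2) F) 0 0) h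
    simp at e00
    apply h2
    linear_combination e00
  change Nat.card ↥{t : Matrix.SpecialLinearGroup (Fin 2) F | t ∈ diagT F ∧ t * t = 1} = 2
  rw [Nat.card_coe_set_eq, hset, Set.ncard_pair hne]

/-- The normalizer of the diagonal torus: order, class number, squares of the outer elements. -/
theorem normalizer_diagT_facts [Fintype F] (h2 : (2 : F) ≠ 0)
    (d : Matrix.SpecialLinearGroup (Fin 2) F)
    (hd01 : (d : Matrix (Fin 2) (Fin 2) F) 0 1 = 0) (hd10 : (d : Matrix (Fin 2) (Fin 2) F) 1 0 = 0)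
    (hda : (d : Matrix (Fin 2) (Fin 2) F) 0 0 ^ 2 ≠ 1) :
    Nat.card (Subgroup.normalizer ((diagT F : Subgroup (Matrix.SpecialLinearGroup (Fin 2) F)) :
      Set (Matrix.SpecialLinearGroup (Fin 2) F))) = 2 * (Fintype.card F - 1) ∧
    Nat.card (ConjClasses (Subgroup.normalizer ((diagT F : Subgroup (Matrix.SpecialLinearGroup (Fin 2) F)) :
      Set (Matrix.SpecialLinearGroup (Fin 2) F)))) * 2 = Fintype.card F + 5 ∧
    ∀ g : Matrix.SpecialLinearGroup (Fin 2) F,
      g ∈ Subgroup.normalizer ((diagT F : Subgroup (Matrix.SpecialLinearGroup (Fin 2) F)) :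
        Set (Matrix.SpecialLinearGroup (Fin 2) F)) → g ∉ diagT F →
      ((g * g : Matrix.SpecialLinearGroup (Fin 2) F) : Matrix (Fin 2) (Fin 2) F) = -1 := by
  have hmem := mem_normalizer_diagT d hd01 hd10 hda
  have hanti : ∀ g : Matrix.SpecialLinearGroup (Fin 2) F,
      g ∈ Subgroup.normalizer ((diagT F : Subgroup (Matrix.SpecialLinearGroup (Fin 2) F)) :
        Set (Matrix.SpecialLinearGroup (Fin 2) F)) → g ∉ diagT F →
      ((g : Matrix (Fin 2) (Fin 2) F) 0 0 = 0 ∧ (g : Matrix (Fin 2) (Fin 2) F) 1 1 = 0) := by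
    intro g hg hgT
    exact ((hmem g).mp hg).resolve_left hgT
  have hwN : weylW F ∈ Subgroup.normalizer ((diagT F : Subgroup (Matrix.SpecialLinearGroup (Fin 2) F)) :
      Set (Matrix.SpecialLinearGroup (Fin 2) F)) := by
    rw [hmem]
    right
    simp [weylW_val]
  have hwT : weylW F ∉ diagT F := by
    rw [mem_diagT]
    simp [weylW_val]
  have key := card_conjClasses_of_inverting_rel
    (Subgroup.normalizer ((diagT F : Subgroup (Matrix.SpecialLinearGroup (Fin 2) F)) :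
      Set (Matrix.SpecialLinearGroup (Fin 2) F))) (diagT F) Subgroup.le_normalizer (weylW F) hwN hwT
    (by
      intro n hn
      by_cases hnT : n ∈ diagT F
      · exact Or.inl hnT
      · right
        obtain ⟨h00, h11⟩ := hanti n hn hnT
        rw [mem_diagT, sl2_mul_entry, sl2_mul_entry, sl2_inv_00, sl2_inv_01, sl2_inv_10, sl2_inv_11,
          h00, h11]
        simp [weylW_val])
    (fun a ha b hb => diagT_comm a b ha hb)
    (by
      intro n hn hnT t ht
      obtain ⟨h00, h11⟩ := hanti n hn hnT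
      obtain ⟨t01, t10⟩ := ht
      have hg := sl2_det_eq n
      rw [h00, zero_mul, zero_sub] at hg
      apply sl2_ext
      · rw [sl2_conj_00, sl2_inv_00, h00, h11, t01, t10]
        linear_combination ((t : Matrix (Fin 2) (Fin 2) F) 1 1) * hg
      · rw [sl2_conj_01, sl2_inv_01, h00, t01, t10]
        ring
      · rw [sl2_conj_10, sl2_inv_10, h11, t01, t10]
        ring
      · rw [sl2_conj_11, sl2_inv_11, h00, h11, t01, t10]
        linear_combination ((t : Matrix (Fin 2) (Fin 2) F) 0 0) * hg)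
    (card_sq_one_diagT h2)
  rw [card_diagT] at key
  have hq : 2 ≤ Fintype.card F := Fintype.one_lt_card
  refine ⟨key.1, ?_, ?_⟩
  · rw [key.2]
    omega
  · intro g hg hgT
    obtain ⟨h00, h11⟩ := hanti g hg hgT
    exact sq_of_antidiag g h00 h11

end Count

end Cfsg.Agent.Lib.Helper16
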