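import Mathlib
import Cfsg.Agent.Lib.Helper16.DihedralCount
import Cfsg.Agent.Lib.Helper16.SL2Torus
import Cfsg.Agent.Lib.Helper16.Conic
import Cfsg.Agent.Lib.Helper15.SL2Classes
import Cfsg.Agent.Lib.Helper15.GL2Centralizer

set_option autoImplicit false

namespace Cfsg.Agent.Lib.Helper16

open Matrix

section NonSplit

variable {F : Type*} [Field F]

/-- The companion element of trace `t`. -/
def ellE (t : F) : Matrix.SpecialLinearGroup (Fin 2) F :=
  ⟨!![0, -1; 1, t], by simp [Matrix.det_fin_two_of]⟩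

theorem ellE_val (t : F) : (ellE t : Matrix (Fin 2) (Fin 2) F) = !![0, -1; 1, t] := rfl

/-- The torus attached to `t`: the centralizer of the companion element. -/
def nsT (t : F) : Subgroup (Matrix.SpecialLinearGroup (Fin 2) F) :=
  Subgroup.centralizer ({ellE t} : Set (Matrix.SpecialLinearGroup (Fin 2) F))

theorem mem_nsT (t : F) (g : Matrix.SpecialLinearGroup (Fin 2) F) :
    g ∈ nsT t ↔ ((g : Matrix (Fin 2) (Fin 2) F) 0 1 = -(g : Matrix (Fin 2) (Fin 2) F) 1 0 ∧
      (g : Matrix (Fin 2) (Fin 2) F) 1 1 =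
        (g : Matrix (Fin 2) (Fin 2) F) 0 0 + t * (g : Matrix (Fin 2) (Fin 2) F) 1 0) := by
  rw [nsT, Subgroup.mem_centralizer_iff]
  constructor
  · intro h
    have h1 := h (ellE t) (Set.mem_singleton _)
    have e00 := congrArg (fun m : Matrix.SpecialLinearGroup (Fin 2) F =>
      (m : Matrix (Fin 2) (Fin 2) F) 0 0) h1
    have e10 := congrArg (fun m : Matrix.SpecialLinearGroup (Fin 2) F =>
      (m : Matrix (Fin 2) (Fin 2) F) 1 0) h1
    simp only [sl2_mul_entry, ellE_val] at e00 e10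
    simp at e00 e10
    constructor
    · linear_combination -e00
    · linear_combination -e10
  · rintro ⟨h1, h2⟩ h hh
    rw [Set.mem_singleton_iff] at hh
    subst hh
    apply sl2_ext <;> simp only [sl2_mul_entry, ellE_val, h1, h2] <;> simp <;> ring

theorem ellE_mem (t : F) : ellE t ∈ nsT t := by
  rw [mem_nsT, ellE_val]; simp

theorem nsT_norm (t : F) (g : Matrix.SpecialLinearGroup (Fin 2) F) (hg : g ∈ nsT t) :
    (g : Matrix (Fin 2) (Fin 2) F) 0 0 ^ 2 +
      t * (g : Matrix (Fin 2) (Fin 2) F) 0 0 * (g : Matrix (Fin 2) (Fin 2) F) 1 0 +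
      (g : Matrix (Fin 2) (Fin 2) F) 1 0 ^ 2 = 1 := by
  obtain ⟨h1, h2⟩ := (mem_nsT t g).mp hg
  have hd := sl2_det_eq g
  rw [h1, h2] at hd
  linear_combination hd

theorem nsT_comm (t : F) (a b : Matrix.SpecialLinearGroup (Fin 2) F) (ha : a ∈ nsT t)
    (hb : b ∈ nsT t) : a * b = b * a := by
  obtain ⟨ha1, ha2⟩ := (mem_nsT t a).mp ha
  obtain ⟨hb1, hb2⟩ := (mem_nsT t b).mp hb
  apply sl2_ext <;> simp only [sl2_mul_entry, ha1, ha2, hb1, hb2] <;> ring

theorem centralizer_nsT (t : F) :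
    Subgroup.centralizer ((nsT t : Subgroup (Matrix.SpecialLinearGroup (Fin 2) F)) :
      Set (Matrix.SpecialLinearGroup (Fin 2) F)) = nsT t := by
  ext g
  rw [Subgroup.mem_centralizer_iff]
  constructor
  · intro h
    rw [nsT, Subgroup.mem_centralizer_iff]
    rintro x hx
    rw [Set.mem_singleton_iff] at hx
    subst hx
    exact h _ (ellE_mem t)
  · intro hg h hh
    exact nsT_comm t h g hh hg

/-- The centralizer of a non-scalar element of the torus is the torus. -/
theorem centralizer_of_mem_nsT (t : F) (g : Matrix.SpecialLinearGroup (Fin 2) F) (hg : g ∈ nsT t)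
    (hg10 : (g : Matrix (Fin 2) (Fin 2) F) 1 0 ≠ 0) :
    Subgroup.centralizer ({g} : Set (Matrix.SpecialLinearGroup (Fin 2) F)) = nsT t := by
  obtain ⟨g1, g2⟩ := (mem_nsT t g).mp hg
  ext h
  rw [Subgroup.mem_centralizer_iff]
  constructor
  · intro hc
    have h1 := hc g (Set.mem_singleton g)
    have e00 := congrArg (fun m : Matrix.SpecialLinearGroup (Fin 2) F =>
      (m : Matrix (Fin 2) (Fin 2) F) 0 0) h1
    have e10 := congrArg (fun m : Matrix.SpecialLinearGroup (Fin 2) F =>
      (m : Matrix (Fin 2) (Fin 2) F) 1 0) h1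
    simp only [sl2_mul_entry, g1, g2] at e00 e10
    rw [mem_nsT]
    constructor
    · have : (g : Matrix (Fin 2) (Fin 2) F) 1 0 *
          ((h : Matrix (Fin 2) (Fin 2) F) 0 1 + (h : Matrix (Fin 2) (Fin 2) F) 1 0) = 0 := by
        linear_combination -e00
      have := (mul_eq_zero.mp this).resolve_left hg10
      linear_combination this
    · have : (g : Matrix (Fin 2) (Fin 2) F) 1 0 *
          ((h : Matrix (Fin 2) (Fin 2) F) 1 1 - (h : Matrix (Fin 2) (Fin 2) F) 0 0 -
            t * (h : Matrix (Fin 2) (Fin 2) F) 1 0) = 0 := by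
        linear_combination -e10
      have := (mul_eq_zero.mp this).resolve_left hg10
      linear_combination this
  · intro hh x hx
    rw [Set.mem_singleton_iff] at hx
    subst hx
    exact nsT_comm t x h hg hh

/-- An element of the torus with vanishing lower left entry is `±1`. -/
theorem nsT_scalar (t : F) (g : Matrix.SpecialLinearGroup (Fin 2) F) (hg : g ∈ nsT t)
    (hg10 : (g : Matrix (Fin 2) (Fin 2) F) 1 0 = 0) :
    (g : Matrix (Fin 2) (Fin 2) F) = 1 ∨ (g : Matrix (Fin 2) (Fin 2) F) = -1 := by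
  obtain ⟨g1, g2⟩ := (mem_nsT t g).mp hg
  have hn := nsT_norm t g hg
  rw [hg10] at hn g1 g2
  have hfac : ((g : Matrix (Fin 2) (Fin 2) F) 0 0 - 1) * ((g : Matrix (Fin 2) (Fin 2) F) 0 0 + 1) = 0 := by
    linear_combination hn
  rcases mul_eq_zero.mp hfac with h | h
  · left
    have h00 : (g : Matrix (Fin 2) (Fin 2) F) 0 0 = 1 := by linear_combination h
    ext i j
    fin_cases i <;> fin_cases j <;> simp [h00, g1, g2, hg10]
  · right
    have h00 : (g : Matrix (Fin 2) (Fin 2) F) 0 0 = -1 := by linear_combination h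
    ext i j
    fin_cases i <;> fin_cases j <;> simp [h00, g1, g2, hg10]

theorem norm_eq_zero_of_nonsquare (t : F) (ht : ¬ IsSquare (t ^ 2 - 4)) (x y : F)
    (h : x ^ 2 + t * x * y + y ^ 2 = 0) : x = 0 ∧ y = 0 := by
  have hy : y = 0 := by
    by_contra hy
    apply ht
    refine ⟨(2 * x + t * y) / y, ?_⟩
    field_simp
    linear_combination (-4 : F) * h
  subst hy
  refine ⟨?_, rfl⟩
  have : x ^ 2 = 0 := by linear_combination h
  exact pow_eq_zero_iff (two_ne_zero) |>.mp this

theorem isCyclic_nsT_of_aniso [Finite F] (t : F)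
    (hani : ∀ x y : F, x ^ 2 + t * x * y + y ^ 2 = 0 → x = 0 ∧ y = 0) : IsCyclic (nsT t) := by
  obtain ⟨lam, hlam⟩ : ∃ lam : AlgebraicClosure F,
      lam ^ 2 = algebraMap F (AlgebraicClosure F) t * lam - 1 := by
    obtain ⟨lam, h⟩ := IsAlgClosed.exists_root
      (Polynomial.C (1 : AlgebraicClosure F) * Polynomial.X ^ 2 +
        Polynomial.C (-(algebraMap F (AlgebraicClosure F) t)) * Polynomial.X + Polynomial.C 1)
      (by rw [Polynomial.degree_quadratic one_ne_zero]; norm_num)
    refine ⟨lam, ?_⟩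
    simp only [Polynomial.IsRoot, Polynomial.eval_add, Polynomial.eval_mul, Polynomial.eval_C,
      Polynomial.eval_pow, Polynomial.eval_X] at h
    linear_combination h
  let f : nsT t →* AlgebraicClosure F :=
    { toFun := fun g => algebraMap F (AlgebraicClosure F) ((g.1 : Matrix (Fin 2) (Fin 2) F) 0 0) +
        algebraMap F (AlgebraicClosure F) ((g.1 : Matrix (Fin 2) (Fin 2) F) 1 0) * lam
      map_one' := by simp
      map_mul' := by
        intro a b
        obtain ⟨a1, a2⟩ := (mem_nsT t a.1).mp a.2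
        obtain ⟨b1, b2⟩ := (mem_nsT t b.1).mp b.2
        simp only [Subgroup.coe_mul, sl2_mul_entry, a1, a2, map_add, map_mul, map_neg]
        linear_combination
          (-(algebraMap F (AlgebraicClosure F) ((a.1 : Matrix (Fin 2) (Fin 2) F) 1 0) *
            algebraMap F (AlgebraicClosure F) ((b.1 : Matrix (Fin 2) (Fin 2) F) 1 0))) * hlam }
  have hf : Function.Injective f := by
    intro a b hab
    obtain ⟨a1, a2⟩ := (mem_nsT t a.1).mp a.2
    obtain ⟨b1, b2⟩ := (mem_nsT t b.1).mp b.2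
    have h1 : algebraMap F (AlgebraicClosure F) ((a.1 : Matrix (Fin 2) (Fin 2) F) 0 0) +
        algebraMap F (AlgebraicClosure F) ((a.1 : Matrix (Fin 2) (Fin 2) F) 1 0) * lam =
        algebraMap F (AlgebraicClosure F) ((b.1 : Matrix (Fin 2) (Fin 2) F) 0 0) +
        algebraMap F (AlgebraicClosure F) ((b.1 : Matrix (Fin 2) (Fin 2) F) 1 0) * lam := hab
    set u := (a.1 : Matrix (Fin 2) (Fin 2) F) 0 0 - (b.1 : Matrix (Fin 2) (Fin 2) F) 0 0 with hu
    set v := (a.1 : Matrix (Fin 2) (Fin 2) F) 1 0 - (b.1 : Matrix (Fin 2) (Fin 2) F) 1 0 with hv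
    have h2 : algebraMap F (AlgebraicClosure F) u + algebraMap F (AlgebraicClosure F) v * lam = 0 := by
      rw [hu, hv, map_sub, map_sub]
      linear_combination h1
    have h3 : algebraMap F (AlgebraicClosure F) (u ^ 2 + t * u * v + v ^ 2) = 0 := by
      rw [map_add, map_add, map_pow, map_pow, map_mul, map_mul]
      have h4 : algebraMap F (AlgebraicClosure F) u = -(algebraMap F (AlgebraicClosure F) v * lam) := by
        linear_combination h2
      rw [h4]
      linear_combination (algebraMap F (AlgebraicClosure F) v) ^ 2 * hlam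
    have h5 : u ^ 2 + t * u * v + v ^ 2 = 0 :=
      (map_eq_zero (algebraMap F (AlgebraicClosure F))).mp h3
    obtain ⟨hu0, hv0⟩ := hani u v h5
    have e00 : (a.1 : Matrix (Fin 2) (Fin 2) F) 0 0 = (b.1 : Matrix (Fin 2) (Fin 2) F) 0 0 := by
      linear_combination hu0
    have e10 : (a.1 : Matrix (Fin 2) (Fin 2) F) 1 0 = (b.1 : Matrix (Fin 2) (Fin 2) F) 1 0 := by
      linear_combination hv0
    apply Subtype.ext
    apply sl2_ext
    · exact e00
    · rw [a1, b1, e10]
    · exact e10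
    · rw [a2, b2, e00, e10]
  exact isCyclic_of_injective_ringHom f hf

theorem isCyclic_nsT [Finite F] (t : F) (ht : ¬ IsSquare (t ^ 2 - 4)) : IsCyclic (nsT t) :=
  isCyclic_nsT_of_aniso t (norm_eq_zero_of_nonsquare t ht)

theorem ellE_not_scalar (t : F) :
    ¬ Cfsg.Agent.Lib.Helper15.IsScalar2 (ellE t : Matrix (Fin 2) (Fin 2) F) := by
  intro h
  have := h.1
  rw [ellE_val] at this
  simp at this

theorem card_nsT [Fintype F] (t : F) (h2 : (2 : F) ≠ 0) (ht : ¬ IsSquare (t ^ 2 - 4)) :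
    Nat.card (nsT t) = Fintype.card F + 1 := by
  rw [nsT, Cfsg.Agent.Lib.Helper15.card_centralizer_SL2 (ellE t) (ellE_not_scalar t)]
  have htr : (ellE t : Matrix (Fin 2) (Fin 2) F).trace = t := by
    rw [ellE_val, Matrix.trace_fin_two]; simp
  rw [htr]
  exact card_conic_nonsplit t h2 ht

open Matrix in
/-- An element whose discriminant is a square has an eigenvector. -/
theorem exists_eigen_of_isSquare (h2 : (2 : F) ≠ 0) (g : Matrix.SpecialLinearGroup (Fin 2) F) (r : F)
    (hr : (g : Matrix (Fin 2) (Fin 2) F).trace ^ 2 - 4 = r ^ 2) :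
    ∃ (c : F) (v : Fin 2 → F), v ≠ 0 ∧ (g : Matrix (Fin 2) (Fin 2) F).mulVec v = c • v := by
  have hd := sl2_det_eq g
  rw [Matrix.trace_fin_two] at hr
  by_cases h01 : (g : Matrix (Fin 2) (Fin 2) F) 0 1 = 0
  · refine ⟨(g : Matrix (Fin 2) (Fin 2) F) 1 1, ![0, 1], ?_, ?_⟩
    · intro h
      have := congrFun h 1
      simp at this
    · ext i
      fin_cases i <;> simp [Matrix.mulVec, dotProduct, Fin.sum_univ_two, h01]
  · refine ⟨((g : Matrix (Fin 2) (Fin 2) F) 0 0 + (g : Matrix (Fin 2) (Fin 2) F) 1 1 + r) / 2,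
      ![(g : Matrix (Fin 2) (Fin 2) F) 0 1,
        ((g : Matrix (Fin 2) (Fin 2) F) 0 0 + (g : Matrix (Fin 2) (Fin 2) F) 1 1 + r) / 2 -
          (g : Matrix (Fin 2) (Fin 2) F) 0 0], ?_, ?_⟩
    · intro h
      have := congrFun h 0
      simp at this
      exact h01 this
    · ext i
      fin_cases i
      · simp [Matrix.mulVec, dotProduct, Fin.sum_univ_two]
        ring
      · simp [Matrix.mulVec, dotProduct, Fin.sum_univ_two]
        field_simp
        linear_combination (-4 : F) * hd + hr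

open Matrix in
/-- An element without eigenvectors has non-square discriminant. -/
theorem nonsquare_of_elliptic (h2 : (2 : F) ≠ 0) (g : Matrix.SpecialLinearGroup (Fin 2) F)
    (hg : ∀ (c : F) (v : Fin 2 → F), v ≠ 0 → (g : Matrix (Fin 2) (Fin 2) F).mulVec v ≠ c • v) :
    ¬ IsSquare ((g : Matrix (Fin 2) (Fin 2) F).trace ^ 2 - 4) := by
  rintro ⟨r, hr⟩
  obtain ⟨c, v, hv, h⟩ := exists_eigen_of_isSquare h2 g r (by rw [hr]; ring)
  exact hg c v hv h

open Matrix in
/-- Every element without eigenvectors is conjugate into the torus. -/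
theorem exists_conj_mem_nsT [Fintype F] (hF : ringChar F ≠ 2) (t : F) (ht : ¬ IsSquare (t ^ 2 - 4))
    (g : Matrix.SpecialLinearGroup (Fin 2) F)
    (hg : ∀ (c : F) (v : Fin 2 → F), v ≠ 0 → (g : Matrix (Fin 2) (Fin 2) F).mulVec v ≠ c • v) :
    ∃ h : Matrix.SpecialLinearGroup (Fin 2) F, h * g * h⁻¹ ∈ nsT t := by
  have h2 : (2 : F) ≠ 0 := Ring.two_ne_zero hF
  have hs := nonsquare_of_elliptic h2 g hg
  set s := (g : Matrix (Fin 2) (Fin 2) F).trace with hsdef
  have ht0 : t ^ 2 - 4 ≠ 0 := fun h => ht (by rw [h]; exact IsSquare.zero)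
  have hs0 : s ^ 2 - 4 ≠ 0 := fun h => hs (by rw [h]; exact IsSquare.zero)
  obtain ⟨ρ, hρ⟩ := Cfsg.Agent.Lib.Helper15.isSquare_mul_of_not_isSquare hF hs ht
  have hr' : (ρ / (t ^ 2 - 4)) ^ 2 * (t ^ 2 - 4) = s ^ 2 - 4 := by
    field_simp
    linear_combination -hρ
  set r' := ρ / (t ^ 2 - 4) with hr'def
  have hr'0 : r' ≠ 0 := by
    intro h
    rw [h] at hr'
    apply hs0
    rw [← hr']
    ring
  have hdet : (!![(s - r' * t) / 2, -r'; r', (s - r' * t) / 2 + t * r'] :
      Matrix (Fin 2) (Fin 2) F).det = 1 := by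
    rw [Matrix.det_fin_two_of]
    field_simp
    linear_combination -hr'
  set z : Matrix.SpecialLinearGroup (Fin 2) F :=
    ⟨!![(s - r' * t) / 2, -r'; r', (s - r' * t) / 2 + t * r'], hdet⟩ with hz
  have hzval : (z : Matrix (Fin 2) (Fin 2) F) =
      !![(s - r' * t) / 2, -r'; r', (s - r' * t) / 2 + t * r'] := rfl
  have hzmem : z ∈ nsT t := by
    rw [mem_nsT, hzval]
    simp
  have hztr : (z : Matrix (Fin 2) (Fin 2) F).trace = s := by
    rw [hzval, Matrix.trace_fin_two]
    simp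
    field_simp
    ring
  have hzns : ¬ Cfsg.Agent.Lib.Helper15.IsScalar2 (z : Matrix (Fin 2) (Fin 2) F) := by
    intro h
    have := h.2.1
    rw [hzval] at this
    simp at this
    exact hr'0 this
  have hgns : ¬ Cfsg.Agent.Lib.Helper15.IsScalar2 (g : Matrix (Fin 2) (Fin 2) F) := by
    intro h
    obtain ⟨h01, h10, h00⟩ := h
    apply hs0
    have hd := sl2_det_eq g
    rw [hsdef, Matrix.trace_fin_two, ← h00]
    rw [h01, ← h00] at hd
    linear_combination (4 : F) * hd
  have hconj := Cfsg.Agent.Lib.Helper15.SL2_isConj_of_trace g z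
    (Or.inr (fun h => hs0 (by rw [← hsdef] at h; rw [h]; ring))) hgns hzns hztr.symm
  obtain ⟨c, hc⟩ := isConj_iff.mp hconj
  exact ⟨c, by rw [hc]; exact hzmem⟩

/-- The elements inverting the torus. -/
def AntiForm (t : F) (g : Matrix.SpecialLinearGroup (Fin 2) F) : Prop :=
  (g : Matrix (Fin 2) (Fin 2) F) 1 1 = -(g : Matrix (Fin 2) (Fin 2) F) 0 0 ∧
    (g : Matrix (Fin 2) (Fin 2) F) 0 1 =
      (g : Matrix (Fin 2) (Fin 2) F) 1 0 + t * (g : Matrix (Fin 2) (Fin 2) F) 0 0

theorem antiForm_det (t : F) (g : Matrix.SpecialLinearGroup (Fin 2) F) (hg : AntiForm t g) :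
    -((g : Matrix (Fin 2) (Fin 2) F) 0 0 ^ 2 +
      t * (g : Matrix (Fin 2) (Fin 2) F) 0 0 * (g : Matrix (Fin 2) (Fin 2) F) 1 0 +
      (g : Matrix (Fin 2) (Fin 2) F) 1 0 ^ 2) = 1 := by
  have hd := sl2_det_eq g
  rw [hg.1, hg.2] at hd
  linear_combination hd

theorem antiForm_inv (t : F) (g : Matrix.SpecialLinearGroup (Fin 2) F) (hg : AntiForm t g) :
    AntiForm t g⁻¹ := by
  unfold AntiForm
  rw [sl2_inv_00, sl2_inv_01, sl2_inv_10, sl2_inv_11, hg.1, hg.2]
  constructor <;> ring

theorem antiForm_conj (t : F) (g h : Matrix.SpecialLinearGroup (Fin 2) F) (hg : AntiForm t g)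
    (hh : h ∈ nsT t) : g * h * g⁻¹ = h⁻¹ := by
  have hd := antiForm_det t g hg
  obtain ⟨h1, h2⟩ := (mem_nsT t h).mp hh
  apply sl2_ext
  · rw [sl2_conj_00, sl2_inv_00, hg.1, hg.2, h1, h2]
    linear_combination ((h : Matrix (Fin 2) (Fin 2) F) 0 0 +
      t * (h : Matrix (Fin 2) (Fin 2) F) 1 0) * hd
  · rw [sl2_conj_01, sl2_inv_01, hg.2, h1, h2]
    linear_combination ((h : Matrix (Fin 2) (Fin 2) F) 1 0) * hd
  · rw [sl2_conj_10, sl2_inv_10, hg.1, h1, h2]
    linear_combination (-(h : Matrix (Fin 2) (Fin 2) F) 1 0) * hd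
  · rw [sl2_conj_11, sl2_inv_11, hg.1, hg.2, h1, h2]
    linear_combination ((h : Matrix (Fin 2) (Fin 2) F) 0 0) * hd

theorem antiForm_sq (t : F) (g : Matrix.SpecialLinearGroup (Fin 2) F) (hg : AntiForm t g) :
    ((g * g : Matrix.SpecialLinearGroup (Fin 2) F) : Matrix (Fin 2) (Fin 2) F) = -1 := by
  have hd := antiForm_det t g hg
  ext i j
  fin_cases i <;> fin_cases j
  · simp only [Fin.zero_eta, sl2_mul_entry, hg.2]
    simp
    linear_combination -hd
  · simp only [Fin.zero_eta, Fin.mk_one, sl2_mul_entry, hg.1, hg.2]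
    simp
    ring
  · simp only [Fin.zero_eta, Fin.mk_one, sl2_mul_entry, hg.1]
    simp
    ring
  · simp only [Fin.mk_one, sl2_mul_entry, hg.1, hg.2]
    simp
    linear_combination -hd

theorem antiForm_not_mem (t : F) (h2 : (2 : F) ≠ 0) (g : Matrix.SpecialLinearGroup (Fin 2) F)
    (hg : AntiForm t g) : g ∉ nsT t := by
  intro hm
  obtain ⟨h1, h2'⟩ := (mem_nsT t g).mp hm
  have hn := nsT_norm t g hm
  have e1 : 2 * (g : Matrix (Fin 2) (Fin 2) F) 0 0 + t * (g : Matrix (Fin 2) (Fin 2) F) 1 0 = 0 := by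
    linear_combination hg.1 - h2'
  have e2 : 2 * (g : Matrix (Fin 2) (Fin 2) F) 1 0 + t * (g : Matrix (Fin 2) (Fin 2) F) 0 0 = 0 := by
    linear_combination h1 - hg.2
  apply h2
  linear_combination (-2 : F) * hn + (g : Matrix (Fin 2) (Fin 2) F) 0 0 * e1 +
    (g : Matrix (Fin 2) (Fin 2) F) 1 0 * e2

theorem antiForm_mul_mem (t : F) (w n : Matrix.SpecialLinearGroup (Fin 2) F) (hw : AntiForm t w)
    (hn : AntiForm t n) : w⁻¹ * n ∈ nsT t := by
  rw [mem_nsT, sl2_mul_entry, sl2_mul_entry, sl2_mul_entry, sl2_mul_entry, sl2_inv_00, sl2_inv_01,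
    sl2_inv_10, sl2_inv_11, hw.1, hw.2, hn.1, hn.2]
  constructor <;> ring

theorem trace_t_cases (h2 : (2 : F) ≠ 0) (t : F) (ht0 : t ^ 2 - 4 ≠ 0)
    (z : Matrix.SpecialLinearGroup (Fin 2) F) (hz : z ∈ nsT t)
    (htr : (z : Matrix (Fin 2) (Fin 2) F) 0 0 + (z : Matrix (Fin 2) (Fin 2) F) 1 1 = t) :
    ((z : Matrix (Fin 2) (Fin 2) F) 0 0 = 0 ∧ (z : Matrix (Fin 2) (Fin 2) F) 1 0 = 1) ∨
    ((z : Matrix (Fin 2) (Fin 2) F) 0 0 = t ∧ (z : Matrix (Fin 2) (Fin 2) F) 1 0 = -1) := by
  obtain ⟨z1, z2⟩ := (mem_nsT t z).mp hz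
  have hn := nsT_norm t z hz
  rw [z2] at htr
  generalize (z : Matrix (Fin 2) (Fin 2) F) 0 0 = x at hn htr ⊢
  generalize (z : Matrix (Fin 2) (Fin 2) F) 1 0 = y at hn htr ⊢
  have hx' : 2 * x = t - t * y := by linear_combination htr
  have hy2 : (y - 1) * (y + 1) = 0 := by
    have : (t ^ 2 - 4) * ((y - 1) * (y + 1)) = 0 := by
      linear_combination (-4 : F) * hn + (2 * x + t - t * y + 2 * t * y) * hx'
    exact (mul_eq_zero.mp this).resolve_left ht0
  rcases mul_eq_zero.mp hy2 with h | h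
  · left
    have hy1 : y = 1 := by linear_combination h
    refine ⟨?_, hy1⟩
    have : 2 * x = 0 := by rw [hy1] at hx'; linear_combination hx'
    exact (mul_eq_zero.mp this).resolve_left h2
  · right
    have hy1 : y = -1 := by linear_combination h
    refine ⟨?_, hy1⟩
    have : 2 * (x - t) = 0 := by rw [hy1] at hx'; linear_combination hx'
    have := (mul_eq_zero.mp this).resolve_left h2
    linear_combination this

/-- Membership in the normalizer of the torus. -/
theorem mem_normalizer_nsT (h2 : (2 : F) ≠ 0) (t : F) (ht : ¬ IsSquare (t ^ 2 - 4))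
    (g : Matrix.SpecialLinearGroup (Fin 2) F) :
    g ∈ Subgroup.normalizer ((nsT t : Subgroup (Matrix.SpecialLinearGroup (Fin 2) F)) :
      Set (Matrix.SpecialLinearGroup (Fin 2) F)) ↔ (g ∈ nsT t ∨ AntiForm t g) := by
  have ht0 : t ^ 2 - 4 ≠ 0 := fun h => ht (by rw [h]; exact IsSquare.zero)
  constructor
  · intro hg
    have hz : g * ellE t * g⁻¹ ∈ nsT t := ((Subgroup.mem_normalizer_iff.mp hg) (ellE t)).mp (ellE_mem t)
    have htr : ((g * ellE t * g⁻¹ : Matrix.SpecialLinearGroup (Fin 2) F) :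
        Matrix (Fin 2) (Fin 2) F) 0 0 + ((g * ellE t * g⁻¹ : Matrix.SpecialLinearGroup (Fin 2) F) :
        Matrix (Fin 2) (Fin 2) F) 1 1 = t := by
      rw [sl2_conj_00, sl2_conj_11, ellE_val]
      simp
      linear_combination t * sl2_det_eq g
    have hmul : (g * ellE t * g⁻¹) * g = g * ellE t := by group
    generalize g * ellE t * g⁻¹ = z at hz htr hmul
    obtain ⟨z1, z2⟩ := (mem_nsT t z).mp hz
    have e00 := congrArg (fun m : Matrix.SpecialLinearGroup (Fin 2) F =>
      (m : Matrix (Fin 2) (Fin 2) F) 0 0) hmul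
    have e10 := congrArg (fun m : Matrix.SpecialLinearGroup (Fin 2) F =>
      (m : Matrix (Fin 2) (Fin 2) F) 1 0) hmul
    simp only [sl2_mul_entry, ellE_val, z1, z2] at e00 e10
    simp at e00 e10
    rcases trace_t_cases h2 t ht0 z hz htr with ⟨hx0, hy1⟩ | ⟨hx0, hy1⟩
    · left
      rw [hx0, hy1] at e00 e10
      rw [mem_nsT]
      constructor
      · linear_combination -e00
      · linear_combination -e10
    · right
      rw [hx0, hy1] at e00 e10
      constructor
      · linear_combination -e10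
      · linear_combination -e00
  · rintro (hg | hg)
    · exact Subgroup.le_normalizer hg
    · rw [Subgroup.mem_normalizer_iff]
      intro h
      constructor
      · intro hh
        rw [antiForm_conj t g h hg hh]
        exact (nsT t).inv_mem hh
      · intro hh
        have h1 := antiForm_conj t g⁻¹ (g * h * g⁻¹) (antiForm_inv t g hg) hh
        have h3 : g⁻¹ * (g * h * g⁻¹) * g⁻¹⁻¹ = h := by group
        rw [h3] at h1
        rw [h1]
        exact (nsT t).inv_mem hh

theorem card_sq_one_nsT (h2 : (2 : F) ≠ 0) (t : F) :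
    Nat.card {g : Matrix.SpecialLinearGroup (Fin 2) F // g ∈ nsT t ∧ g * g = 1} = 2 := by
  have hset : {g : Matrix.SpecialLinearGroup (Fin 2) F | g ∈ nsT t ∧ g * g = 1} = {1, -1} := by
    ext g
    simp only [Set.mem_ofPred_eq, Set.mem_insert_iff, Set.mem_singleton_iff]
    constructor
    · rintro ⟨hg, hgg⟩
      obtain ⟨g1, g2⟩ := (mem_nsT t g).mp hg
      have hn := nsT_norm t g hg
      have e00 := congrArg (fun m : Matrix.SpecialLinearGroup (Fin 2) F =>
        (m : Matrix (Fin 2) (Fin 2) F) 0 0) hgg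
      have e10 := congrArg (fun m : Matrix.SpecialLinearGroup (Fin 2) F =>
        (m : Matrix (Fin 2) (Fin 2) F) 1 0) hgg
      simp only [sl2_mul_entry, g1, g2, Matrix.SpecialLinearGroup.coe_one] at e00 e10
      simp at e00 e10
      have h10 : (g : Matrix (Fin 2) (Fin 2) F) 1 0 = 0 := by
        by_contra hne
        have e : 2 * (g : Matrix (Fin 2) (Fin 2) F) 0 0 + t * (g : Matrix (Fin 2) (Fin 2) F) 1 0 = 0 := by
          have : (g : Matrix (Fin 2) (Fin 2) F) 1 0 *
              (2 * (g : Matrix (Fin 2) (Fin 2) F) 0 0 + t * (g : Matrix (Fin 2) (Fin 2) F) 1 0) = 0 := by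
            linear_combination e10
          exact (mul_eq_zero.mp this).resolve_left hne
        apply h2
        linear_combination -hn - e00 + (g : Matrix (Fin 2) (Fin 2) F) 0 0 * e
      rcases nsT_scalar t g hg h10 with h | h
      · left
        exact Subtype.ext h
      · right
        apply Subtype.ext
        rw [h, Matrix.SpecialLinearGroup.coe_neg, Matrix.SpecialLinearGroup.coe_one]
    · rintro (rfl | rfl)
      · exact ⟨(nsT t).one_mem, one_mul 1⟩
      · refine ⟨?_, by simp⟩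
        rw [mem_nsT]
        simp
  have hne : (1 : Matrix.SpecialLinearGroup (Fin 2) F) ≠ -1 := by
    intro h
    have e00 := congrArg (fun m : Matrix.SpecialLinearGroup (Fin 2) F =>
      (m : Matrix (Fin 2) (Fin 2) F) 0 0) h
    simp at e00
    apply h2
    linear_combination e00
  change Nat.card ↥{g : Matrix.SpecialLinearGroup (Fin 2) F | g ∈ nsT t ∧ g * g = 1} = 2
  rw [Nat.card_coe_set_eq, hset, Set.ncard_pair hne]

/-- The normalizer of the non-split torus: order, class number, squares of the outer elements. -/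
theorem normalizer_nsT_facts [Fintype F] (hF : ringChar F ≠ 2) (t : F) (ht : ¬ IsSquare (t ^ 2 - 4)) :
    Nat.card (Subgroup.normalizer ((nsT t : Subgroup (Matrix.SpecialLinearGroup (Fin 2) F)) :
      Set (Matrix.SpecialLinearGroup (Fin 2) F))) = 2 * (Fintype.card F + 1) ∧
    Nat.card (ConjClasses (Subgroup.normalizer ((nsT t : Subgroup (Matrix.SpecialLinearGroup (Fin 2) F)) :
      Set (Matrix.SpecialLinearGroup (Fin 2) F)))) * 2 = Fintype.card F + 7 ∧
    ∀ g : Matrix.SpecialLinearGroup (Fin 2) F,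
      g ∈ Subgroup.normalizer ((nsT t : Subgroup (Matrix.SpecialLinearGroup (Fin 2) F)) :
        Set (Matrix.SpecialLinearGroup (Fin 2) F)) → g ∉ nsT t →
      ((g * g : Matrix.SpecialLinearGroup (Fin 2) F) : Matrix (Fin 2) (Fin 2) F) = -1 := by
  have h2 : (2 : F) ≠ 0 := Ring.two_ne_zero hF
  have ht4 : t ^ 2 ≠ 4 := fun h => ht (by rw [h, sub_self]; exact IsSquare.zero)
  have hmem := mem_normalizer_nsT h2 t ht
  have hanti : ∀ g : Matrix.SpecialLinearGroup (Fin 2) F,
      g ∈ Subgroup.normalizer ((nsT t : Subgroup (Matrix.SpecialLinearGroup (Fin 2) F)) :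
        Set (Matrix.SpecialLinearGroup (Fin 2) F)) → g ∉ nsT t → AntiForm t g := by
    intro g hg hgT
    exact ((hmem g).mp hg).resolve_left hgT
  obtain ⟨a, c, hac⟩ := Cfsg.Agent.Lib.Helper15.norm_universal t (Or.inr ht4) (-1)
  have hwdet : (!![a, c + t * a; c, -a] : Matrix (Fin 2) (Fin 2) F).det = 1 := by
    rw [Matrix.det_fin_two_of]
    linear_combination -hac
  set w : Matrix.SpecialLinearGroup (Fin 2) F := ⟨!![a, c + t * a; c, -a], hwdet⟩ with hwdef
  have hwanti : AntiForm t w := by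
    unfold AntiForm
    have : (w : Matrix (Fin 2) (Fin 2) F) = !![a, c + t * a; c, -a] := rfl
    rw [this]
    simp
  have hwN : w ∈ Subgroup.normalizer ((nsT t : Subgroup (Matrix.SpecialLinearGroup (Fin 2) F)) :
      Set (Matrix.SpecialLinearGroup (Fin 2) F)) := (hmem w).mpr (Or.inr hwanti)
  have hwT : w ∉ nsT t := antiForm_not_mem t h2 w hwanti
  have key := card_conjClasses_of_inverting_rel
    (Subgroup.normalizer ((nsT t : Subgroup (Matrix.SpecialLinearGroup (Fin 2) F)) :
      Set (Matrix.SpecialLinearGroup (Fin 2) F))) (nsT t) Subgroup.le_normalizer w hwN hwT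
    (by
      intro n hn
      by_cases hnT : n ∈ nsT t
      · exact Or.inl hnT
      · exact Or.inr (antiForm_mul_mem t w n hwanti (hanti n hn hnT)))
    (fun a ha b hb => nsT_comm t a b ha hb)
    (fun n hn hnT x hx => antiForm_conj t n x (hanti n hn hnT) hx)
    (card_sq_one_nsT h2 t)
  rw [card_nsT t h2 ht] at key
  refine ⟨key.1, ?_, ?_⟩
  · rw [key.2]
  · intro g hg hgT
    exact antiForm_sq t g (hanti g hg hgT)

/-- There is a trace with non-square discriminant. -/
theorem exists_nonsquare_disc [Fintype F] (hF : ringChar F ≠ 2) :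
    ∃ t : F, ¬ IsSquare (t ^ 2 - 4) := by
  obtain ⟨n, hn⟩ := FiniteField.exists_nonsquare hF
  have hn1 : 1 - n ≠ 0 := by
    intro h
    apply hn
    have : n = 1 := by linear_combination -h
    rw [this]
    exact IsSquare.one
  refine ⟨2 * (1 + n) / (1 - n), ?_⟩
  rintro ⟨r, hr⟩
  apply hn
  refine ⟨r * (1 - n) / 4, ?_⟩
  have h2 : (2 : F) ≠ 0 := Ring.two_ne_zero hF
  have h4 : (4 : F) ≠ 0 := by
    have : (4 : F) = 2 * 2 := by norm_num
    rw [this]; exact mul_ne_zero h2 h2
  field_simp at hr ⊢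
  linear_combination hr

end NonSplit

end Cfsg.Agent.Lib.Helper16
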