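import Mathlib
import Cfsg.Agent.Lib.Helper16.SL2NonSplit

set_option autoImplicit false

namespace Cfsg.Agent.Lib.Helper16

open Matrix

section Gen

variable {F : Type*} [Field F]

/-- The polynomial `m² + t m + 1` has no root. -/
def NoRoot (t : F) : Prop := ∀ m : F, m ^ 2 + t * m + 1 ≠ 0

theorem aniso_of_noRoot (t : F) (h : NoRoot t) (x y : F) (hxy : x ^ 2 + t * x * y + y ^ 2 = 0) :
    x = 0 ∧ y = 0 := by
  have hy : y = 0 := by
    by_contra hy
    apply h (x / y)
    field_simp
    linear_combination hxy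
  subst hy
  refine ⟨?_, rfl⟩
  have : x ^ 2 = 0 := by linear_combination hxy
  exact pow_eq_zero_iff (two_ne_zero) |>.mp this

theorem noRoot_of_nonsquare (t : F) (ht : ¬ IsSquare (t ^ 2 - 4)) : NoRoot t := by
  intro m hm
  apply ht
  exact ⟨2 * m + t, by linear_combination (-4 : F) * hm⟩

theorem noRoot_ne_zero_of_two (t : F) (h2 : (2 : F) = 0) (h : NoRoot t) : t ≠ 0 := by
  rintro rfl
  apply h 1
  linear_combination h2

theorem noRoot_sq_ne_four (t : F) (h : NoRoot t) : t ^ 2 ≠ 4 := by
  intro ht
  have hfac : (t - 2) * (t + 2) = 0 := by linear_combination ht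
  rcases mul_eq_zero.mp hfac with h1 | h1
  · apply h (-1)
    linear_combination -h1
  · apply h 1
    linear_combination h1

/-- There is always a trace without roots. -/
theorem exists_noRoot [Fintype F] : ∃ t : F, NoRoot t := by
  classical
  by_contra hcon
  have hall : ∀ t : F, ∃ m : F, m ^ 2 + t * m + 1 = 0 := by
    intro t
    by_contra h
    apply hcon
    refine ⟨t, ?_⟩
    intro m hm
    exact h ⟨m, hm⟩
  have hsurj : Function.Surjective (fun m : Fˣ => -((m : F) + ((m⁻¹ : Fˣ) : F))) := by
    intro t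
    obtain ⟨m, hm⟩ := hall t
    have hm0 : m ≠ 0 := by
      rintro rfl
      simp at hm
    refine ⟨Units.mk0 m hm0, ?_⟩
    simp only [Units.val_mk0, Units.val_inv_eq_inv_val]
    field_simp
    linear_combination -hm
  have h1 := Fintype.card_le_of_surjective _ hsurj
  rw [Fintype.card_units] at h1
  have h2 : 0 < Fintype.card F := Fintype.card_pos
  omega

/-- The conic count in characteristic two. -/
theorem card_conic_two [Fintype F] (t : F) (h2 : (2 : F) = 0) (ht : t ≠ 0) :
    Nat.card {p : F × F // p.1 ^ 2 + t * p.1 * p.2 + p.2 ^ 2 = 1} +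
      Nat.card {m : F // m ^ 2 + t * m + 1 = 0} = Fintype.card F + 1 := by
  classical
  let φ : Option {m : F // m ^ 2 + t * m + 1 ≠ 0} →
      {p : F × F // p.1 ^ 2 + t * p.1 * p.2 + p.2 ^ 2 = 1} := fun o =>
    match o with
    | none => ⟨(-1, 0), by ring⟩
    | some m => ⟨conicPt t m.1, conicPt_mem t m.1 m.2⟩
  have hsne : ∀ m : F, m ^ 2 + t * m + 1 ≠ 0 → -(2 * m + t) / (m ^ 2 + t * m + 1) ≠ 0 := by
    intro m hm
    apply div_ne_zero _ hm
    rw [h2, zero_mul, zero_add]
    exact neg_ne_zero.mpr ht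
  have hinj : Function.Injective φ := by
    rintro (_ | ⟨m, hm⟩) (_ | ⟨m', hm'⟩) h
    · rfl
    · exfalso
      have h3 := congrArg (fun p : {p : F × F // p.1 ^ 2 + t * p.1 * p.2 + p.2 ^ 2 = 1} => p.1.2) h
      simp only [φ, conicPt] at h3
      exact hsne m' hm' h3.symm
    · exfalso
      have h3 := congrArg (fun p : {p : F × F // p.1 ^ 2 + t * p.1 * p.2 + p.2 ^ 2 = 1} => p.1.2) h
      simp only [φ, conicPt] at h3
      exact hsne m hm h3
    · have h1 := congrArg (fun p : {p : F × F // p.1 ^ 2 + t * p.1 * p.2 + p.2 ^ 2 = 1} => p.1.1) h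
      have h3 := congrArg (fun p : {p : F × F // p.1 ^ 2 + t * p.1 * p.2 + p.2 ^ 2 = 1} => p.1.2) h
      simp only [φ, conicPt] at h1 h3
      rw [h3] at h1
      have hmm : m = m' := by
        have : (m - m') * (-(2 * m' + t) / (m' ^ 2 + t * m' + 1)) = 0 := by
          linear_combination h1
        have := (mul_eq_zero.mp this).resolve_right (hsne m' hm')
        linear_combination this
      subst hmm
      rfl
  have hsurj : Function.Surjective φ := by
    rintro ⟨⟨x, y⟩, hp⟩
    simp only at hp
    by_cases hy : y = 0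
    · subst hy
      have hx : (x + 1) * (x + 1) = 0 := by linear_combination hp + (x + 1) * h2
      have hx1 : x = -1 := by
        have := mul_self_eq_zero.mp hx
        linear_combination this
      refine ⟨none, ?_⟩
      apply Subtype.ext
      simp only [φ]
      rw [hx1]
    · have hW : 2 - 2 * x - t * y ≠ 0 := by
        rw [h2, zero_mul, sub_zero, zero_sub]
        exact neg_ne_zero.mpr (mul_ne_zero ht hy)
      have hD : ((x - 1) / y) ^ 2 + t * ((x - 1) / y) + 1 = (2 - 2 * x - t * y) / y ^ 2 := by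
        field_simp
        linear_combination hp
      have hm : ((x - 1) / y) ^ 2 + t * ((x - 1) / y) + 1 ≠ 0 := by
        rw [hD]
        exact div_ne_zero hW (pow_ne_zero 2 hy)
      refine ⟨some ⟨(x - 1) / y, hm⟩, ?_⟩
      apply Subtype.ext
      simp only [φ, conicPt]
      rw [hD]
      have e1 : -(2 * ((x - 1) / y) + t) = (2 - 2 * x - t * y) / y := by
        field_simp
        ring
      have hs : -(2 * ((x - 1) / y) + t) / ((2 - 2 * x - t * y) / y ^ 2) = y := by
        rw [e1]
        generalize 2 - 2 * x - t * y = W at hW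
        field_simp
      rw [hs, Prod.mk.injEq]
      exact ⟨by field_simp; ring, rfl⟩
  have hcard := Nat.card_congr (Equiv.ofBijective φ ⟨hinj, hsurj⟩)
  rw [← hcard, Nat.card_eq_fintype_card, Fintype.card_option, Nat.card_eq_fintype_card]
  have hsplit := Fintype.card_subtype_compl (fun m : F => m ^ 2 + t * m + 1 = 0)
  have hle := Fintype.card_subtype_le (fun m : F => m ^ 2 + t * m + 1 = 0)
  have e : Fintype.card {m : F // m ^ 2 + t * m + 1 ≠ 0} =
      Fintype.card {m : F // ¬ (m ^ 2 + t * m + 1 = 0)} := rfl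
  rw [e, hsplit]
  omega

/-- The conic count in any characteristic, for regular `t`. -/
theorem card_conic_gen [Fintype F] (t : F) (ht : t ^ 2 ≠ 4) :
    Nat.card {p : F × F // p.1 ^ 2 + t * p.1 * p.2 + p.2 ^ 2 = 1} +
      Nat.card {m : F // m ^ 2 + t * m + 1 = 0} = Fintype.card F + 1 := by
  by_cases h2 : (2 : F) = 0
  · apply card_conic_two t h2
    rintro rfl
    apply ht
    linear_combination (-2 : F) * h2
  · exact card_conic t h2 ht

theorem card_conic_noRoot [Fintype F] (t : F) (h : NoRoot t) :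
    Nat.card {p : F × F // p.1 ^ 2 + t * p.1 * p.2 + p.2 ^ 2 = 1} = Fintype.card F + 1 := by
  have h1 := card_conic_gen t (noRoot_sq_ne_four t h)
  have h0 : Nat.card {m : F // m ^ 2 + t * m + 1 = 0} = 0 := by
    have : IsEmpty {m : F // m ^ 2 + t * m + 1 = 0} := ⟨fun m => h m.1 m.2⟩
    exact Nat.card_of_isEmpty
  rw [h0, add_zero] at h1
  exact h1

/-- The number of roots of `m² + t m + 1` is two as soon as there is one (regular `t`). -/
theorem card_roots_of_root (t m₀ : F) (ht : t ^ 2 ≠ 4) (hm₀ : m₀ ^ 2 + t * m₀ + 1 = 0) :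
    Nat.card {m : F // m ^ 2 + t * m + 1 = 0} = 2 := by
  have hset : {m : F | m ^ 2 + t * m + 1 = 0} = {m₀, -t - m₀} := by
    ext m
    simp only [Set.mem_ofPred_eq, Set.mem_insert_iff, Set.mem_singleton_iff]
    constructor
    · intro hm
      have : (m - m₀) * (m + t + m₀) = 0 := by linear_combination hm - hm₀
      rcases mul_eq_zero.mp this with h | h
      · left
        linear_combination h
      · right
        linear_combination h
    · rintro (rfl | rfl)
      · exact hm₀
      · linear_combination hm₀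
  have hne : m₀ ≠ -t - m₀ := by
    intro h
    apply ht
    have e : t = -2 * m₀ := by linear_combination h
    rw [e] at hm₀
    rw [e]
    linear_combination (-4 : F) * hm₀
  change Nat.card ↥{m : F | m ^ 2 + t * m + 1 = 0} = 2
  rw [Nat.card_coe_set_eq, hset, Set.ncard_pair hne]

theorem card_conic_root [Fintype F] (t m₀ : F) (ht : t ^ 2 ≠ 4) (hm₀ : m₀ ^ 2 + t * m₀ + 1 = 0) :
    Nat.card {p : F × F // p.1 ^ 2 + t * p.1 * p.2 + p.2 ^ 2 = 1} = Fintype.card F - 1 := by
  have h1 := card_conic_gen t ht
  rw [card_roots_of_root t m₀ ht hm₀] at h1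
  omega

theorem isCyclic_nsT_of_noRoot [Finite F] (t : F) (h : NoRoot t) : IsCyclic (nsT t) :=
  isCyclic_nsT_of_aniso t (aniso_of_noRoot t h)

theorem card_nsT_of_noRoot [Fintype F] (t : F) (h : NoRoot t) :
    Nat.card (nsT t) = Fintype.card F + 1 := by
  rw [nsT, Cfsg.Agent.Lib.Helper15.card_centralizer_SL2 (ellE t) (ellE_not_scalar t)]
  have htr : (ellE t : Matrix (Fin 2) (Fin 2) F).trace = t := by
    rw [ellE_val, Matrix.trace_fin_two]; simp
  rw [htr]
  exact card_conic_noRoot t h

end Gen

end Cfsg.Agent.Lib.Helper16
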