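import Mathlib
import Cfsg.Agent.Lib.Helper16.SL2Gen

set_option autoImplicit false

namespace Cfsg.Agent.Lib.Helper16

open Matrix

section PSL

variable {F : Type*} [Field F]

/-- The quotient map onto `PSL₂`. -/
def pslMk (F : Type*) [Field F] :
    Matrix.SpecialLinearGroup (Fin 2) F →* Matrix.ProjectiveSpecialLinearGroup (Fin 2) F :=
  QuotientGroup.mk' (Subgroup.center (Matrix.SpecialLinearGroup (Fin 2) F))

theorem pslMk_surjective : Function.Surjective (pslMk F) :=
  QuotientGroup.mk'_surjective _

theorem diagonal_neg_one :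
    (Matrix.diagonal fun _ : Fin 2 => (-1 : F)) = -1 := by
  ext i j
  fin_cases i <;> fin_cases j <;> simp

theorem mem_center_SL2 (g : Matrix.SpecialLinearGroup (Fin 2) F) :
    g ∈ Subgroup.center (Matrix.SpecialLinearGroup (Fin 2) F) ↔ (g = 1 ∨ g = -1) := by
  rw [Matrix.SpecialLinearGroup.mem_center_iff]
  constructor
  · rintro ⟨r, hr, hg⟩
    rw [Fintype.card_fin] at hr
    have hfac : (r - 1) * (r + 1) = 0 := by linear_combination hr
    rcases mul_eq_zero.mp hfac with h | h
    · left
      have hr1 : r = 1 := by linear_combination h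
      apply Subtype.ext
      rw [← hg, hr1]
      simp
    · right
      have hr1 : r = -1 := by linear_combination h
      apply Subtype.ext
      rw [← hg, hr1]
      simp [diagonal_neg_one]
  · rintro (rfl | rfl)
    · exact ⟨1, by simp, by simp⟩
    · exact ⟨-1, by simp, by simp [diagonal_neg_one]⟩

theorem pslMk_eq_one_iff (g : Matrix.SpecialLinearGroup (Fin 2) F) :
    pslMk F g = 1 ↔ (g = 1 ∨ g = -1) := by
  rw [pslMk, QuotientGroup.mk'_apply, QuotientGroup.eq_one_iff, mem_center_SL2]

theorem pslMk_eq_iff (a b : Matrix.SpecialLinearGroup (Fin 2) F) :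
    pslMk F a = pslMk F b ↔ (b = a ∨ b = -a) := by
  rw [← mul_inv_eq_one, ← map_inv, ← map_mul, pslMk_eq_one_iff]
  constructor
  · rintro (h | h)
    · left
      exact (mul_inv_eq_one.mp h).symm
    · right
      have := mul_inv_eq_iff_eq_mul.mp h
      rw [this]
      simp
  · rintro (rfl | rfl)
    · left
      exact mul_inv_cancel b
    · right
      simp

theorem sl2_neg_one_ne_one (h2 : (2 : F) ≠ 0) : (-1 : Matrix.SpecialLinearGroup (Fin 2) F) ≠ 1 := by
  intro h
  have e00 := congrArg (fun m : Matrix.SpecialLinearGroup (Fin 2) F =>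
    (m : Matrix (Fin 2) (Fin 2) F) 0 0) h
  simp at e00
  apply h2
  linear_combination -e00

theorem sl2_neg_one_eq_one (h2 : (2 : F) = 0) : (-1 : Matrix.SpecialLinearGroup (Fin 2) F) = 1 := by
  apply Subtype.ext
  rw [Matrix.SpecialLinearGroup.coe_neg, Matrix.SpecialLinearGroup.coe_one]
  ext i j
  fin_cases i <;> fin_cases j <;> simp
  · linear_combination -h2
  · linear_combination -h2

theorem pslMk_injective_of_two (h2 : (2 : F) = 0) : Function.Injective (pslMk F) := by
  intro a b h
  rcases (pslMk_eq_iff a b).mp h with h1 | h1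
  · exact h1.symm
  · rw [h1, ← neg_one_mul, sl2_neg_one_eq_one h2, one_mul]

/-- The preimage in `SL₂` of the centralizer of the image of `g` in `PSL₂`. -/
def cpm (g : Matrix.SpecialLinearGroup (Fin 2) F) : Subgroup (Matrix.SpecialLinearGroup (Fin 2) F) :=
  (Subgroup.centralizer ({pslMk F g} : Set (Matrix.ProjectiveSpecialLinearGroup (Fin 2) F))).comap
    (pslMk F)

theorem index_cpm (g : Matrix.SpecialLinearGroup (Fin 2) F) :
    (cpm g).index = (Subgroup.centralizer
      ({pslMk F g} : Set (Matrix.ProjectiveSpecialLinearGroup (Fin 2) F))).index :=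
  Subgroup.index_comap_of_surjective _ pslMk_surjective

theorem mem_cpm (g x : Matrix.SpecialLinearGroup (Fin 2) F) :
    x ∈ cpm g ↔ (x * g * x⁻¹ = g ∨ x * g * x⁻¹ = -g) := by
  rw [cpm, Subgroup.mem_comap, Subgroup.mem_centralizer_iff]
  constructor
  · intro h
    have h1 := h _ (Set.mem_singleton _)
    have h2 : pslMk F g = pslMk F (x * g * x⁻¹) := by
      rw [map_mul, map_mul, map_inv, ← h1, mul_inv_cancel_right]
    exact (pslMk_eq_iff _ _).mp h2
  · intro h y hy
    rw [Set.mem_singleton_iff] at hy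
    subst hy
    have h2 : pslMk F g = pslMk F (x * g * x⁻¹) := (pslMk_eq_iff _ _).mpr h
    rw [map_mul, map_mul, map_inv] at h2
    exact (mul_inv_eq_iff_eq_mul.mp h2.symm).symm

theorem centralizer_le_cpm (g : Matrix.SpecialLinearGroup (Fin 2) F) :
    Subgroup.centralizer ({g} : Set (Matrix.SpecialLinearGroup (Fin 2) F)) ≤ cpm g := by
  intro x hx
  rw [mem_cpm]
  left
  have := (Subgroup.mem_centralizer_iff.mp hx) g (Set.mem_singleton g)
  rw [← this]
  group

theorem mem_centralizer_singleton (g x : Matrix.SpecialLinearGroup (Fin 2) F) :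
    x ∈ Subgroup.centralizer ({g} : Set (Matrix.SpecialLinearGroup (Fin 2) F)) ↔ x * g * x⁻¹ = g := by
  rw [Subgroup.mem_centralizer_iff]
  constructor
  · intro h
    have := h g (Set.mem_singleton g)
    rw [← this]
    group
  · intro h y hy
    rw [Set.mem_singleton_iff] at hy
    subst hy
    have := mul_inv_eq_iff_eq_mul.mp h
    exact this.symm

/-- If `g` is not conjugate to `-g`, the two centralizers agree. -/
theorem cpm_eq_centralizer (g : Matrix.SpecialLinearGroup (Fin 2) F)
    (h : ∀ x : Matrix.SpecialLinearGroup (Fin 2) F, x * g * x⁻¹ ≠ -g) :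
    cpm g = Subgroup.centralizer ({g} : Set (Matrix.SpecialLinearGroup (Fin 2) F)) := by
  ext x
  rw [mem_cpm, mem_centralizer_singleton]
  constructor
  · rintro (h1 | h1)
    · exact h1
    · exact absurd h1 (h x)
  · intro h1
    exact Or.inl h1

/-- If `g` is conjugate to `-g ≠ g`, the centralizer has index two in `cpm g`. -/
theorem card_cpm_of_conj [Finite F] (h2 : (2 : F) ≠ 0) (g x₀ : Matrix.SpecialLinearGroup (Fin 2) F)
    (h : x₀ * g * x₀⁻¹ = -g) :
    Nat.card (cpm g) =
      2 * Nat.card (Subgroup.centralizer ({g} : Set (Matrix.SpecialLinearGroup (Fin 2) F))) := by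
  have hne : -g ≠ g := by
    intro hg
    apply sl2_neg_one_ne_one h2
    have : (-1 : Matrix.SpecialLinearGroup (Fin 2) F) * g = 1 * g := by
      rw [neg_one_mul, one_mul]; exact hg
    exact mul_right_cancel this
  have hx₀ : x₀ ∈ cpm g := (mem_cpm g x₀).mpr (Or.inr h)
  have hidx : ((Subgroup.centralizer ({g} : Set (Matrix.SpecialLinearGroup (Fin 2) F))).subgroupOf
      (cpm g)).index = 2 := by
    rw [Subgroup.index_eq_two_iff_exists_notMem_and']
    refine ⟨⟨x₀, hx₀⟩, ?_, ?_⟩
    · rw [Subgroup.mem_subgroupOf, mem_centralizer_singleton, h]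
      exact hne
    · intro b
      rw [Subgroup.mem_subgroupOf, Subgroup.mem_subgroupOf, mem_centralizer_singleton,
        mem_centralizer_singleton]
      rcases (mem_cpm g b.1).mp b.2 with hb | hb
      · exact Or.inr hb
      · left
        have e : (x₀ * b.1) * g * (x₀ * b.1)⁻¹ = x₀ * (b.1 * g * b.1⁻¹) * x₀⁻¹ := by group
        rw [Subgroup.coe_mul, e, hb, mul_neg, neg_mul, h, neg_neg]
  have hcard : Nat.card ((Subgroup.centralizer ({g} : Set (Matrix.SpecialLinearGroup (Fin 2) F))).subgroupOf
      (cpm g)) = Nat.card (Subgroup.centralizer ({g} : Set (Matrix.SpecialLinearGroup (Fin 2) F))) :=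
    Nat.card_congr (Subgroup.subgroupOfEquivOfLe (centralizer_le_cpm g)).toEquiv
  have h3 := Subgroup.card_mul_index
    ((Subgroup.centralizer ({g} : Set (Matrix.SpecialLinearGroup (Fin 2) F))).subgroupOf (cpm g))
  rw [hidx, hcard] at h3
  omega

end PSL

end Cfsg.Agent.Lib.Helper16
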