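import Mathlib
import Cfsg.Agent.Lib.Helper16.PSL2

set_option autoImplicit false

namespace Cfsg.Agent.Lib.Helper16

open Matrix

section Cent

variable {F : Type*} [Field F]

theorem card_conic_neg (t : F) :
    Nat.card {p : F × F // p.1 ^ 2 + (-t) * p.1 * p.2 + p.2 ^ 2 = 1} =
      Nat.card {p : F × F // p.1 ^ 2 + t * p.1 * p.2 + p.2 ^ 2 = 1} := by
  apply Nat.card_congr
  refine ⟨fun p => ⟨(p.1.1, -p.1.2), by have := p.2; simp only; linear_combination this⟩,
    fun p => ⟨(p.1.1, -p.1.2), by have := p.2; simp only; linear_combination this⟩, ?_, ?_⟩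
  · rintro ⟨⟨x, y⟩, hp⟩
    simp
  · rintro ⟨⟨x, y⟩, hp⟩
    simp

/-- Centralizer order of a non-scalar parabolic element. -/
theorem card_centralizer_parabolic [Fintype F] (g : Matrix.SpecialLinearGroup (Fin 2) F)
    (hg : ¬ Cfsg.Agent.Lib.Helper15.IsScalar2 (g : Matrix (Fin 2) (Fin 2) F))
    (ht : (g : Matrix (Fin 2) (Fin 2) F).trace ^ 2 = 4) :
    Nat.card (Subgroup.centralizer ({g} : Set (Matrix.SpecialLinearGroup (Fin 2) F))) =
      Nat.card {s : F // s ^ 2 = 1} * Fintype.card F := by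
  have hfac : ((g : Matrix (Fin 2) (Fin 2) F).trace - 2) * ((g : Matrix (Fin 2) (Fin 2) F).trace + 2) = 0 := by
    linear_combination ht
  rcases mul_eq_zero.mp hfac with h | h
  · exact Cfsg.Agent.Lib.Helper15.card_centralizer_SL2_trace_two g hg (by linear_combination h)
  · have h' : (g : Matrix (Fin 2) (Fin 2) F).trace = -2 := by linear_combination h
    rw [Cfsg.Agent.Lib.Helper15.card_centralizer_SL2 g hg, h', card_conic_neg,
      Cfsg.Agent.Lib.Helper15.card_norm_two]

/-- Centralizer order of a non-scalar split element. -/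
theorem card_centralizer_split [Fintype F] (g : Matrix.SpecialLinearGroup (Fin 2) F)
    (hg : ¬ Cfsg.Agent.Lib.Helper15.IsScalar2 (g : Matrix (Fin 2) (Fin 2) F))
    (ht : (g : Matrix (Fin 2) (Fin 2) F).trace ^ 2 ≠ 4) (m : F)
    (hm : m ^ 2 + (g : Matrix (Fin 2) (Fin 2) F).trace * m + 1 = 0) :
    Nat.card (Subgroup.centralizer ({g} : Set (Matrix.SpecialLinearGroup (Fin 2) F))) =
      Fintype.card F - 1 := by
  rw [Cfsg.Agent.Lib.Helper15.card_centralizer_SL2 g hg]
  exact card_conic_root _ m ht hm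

/-- Centralizer order of a non-split element. -/
theorem card_centralizer_nonsplit [Fintype F] (g : Matrix.SpecialLinearGroup (Fin 2) F)
    (hg : ¬ Cfsg.Agent.Lib.Helper15.IsScalar2 (g : Matrix (Fin 2) (Fin 2) F))
    (h : NoRoot (g : Matrix (Fin 2) (Fin 2) F).trace) :
    Nat.card (Subgroup.centralizer ({g} : Set (Matrix.SpecialLinearGroup (Fin 2) F))) =
      Fintype.card F + 1 := by
  rw [Cfsg.Agent.Lib.Helper15.card_centralizer_SL2 g hg]
  exact card_conic_noRoot _ h

theorem card_SL2_eq [Fintype F] :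
    Nat.card (Matrix.SpecialLinearGroup (Fin 2) F) =
      Fintype.card F * ((Fintype.card F - 1) * (Fintype.card F + 1)) := by
  rw [Cfsg.Agent.Lib.Helper15.card_SL2]
  have hq : 1 ≤ Fintype.card F := Fintype.card_pos
  obtain ⟨m, hm⟩ : ∃ m, Fintype.card F = m + 1 := ⟨Fintype.card F - 1, by omega⟩
  rw [hm]
  congr 1
  apply Nat.sub_eq_of_eq_add
  simp only [Nat.add_sub_cancel]
  ring

/-- A scalar element of `SL₂` is `±1`. -/
theorem sl2_scalar_cases (g : Matrix.SpecialLinearGroup (Fin 2) F)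
    (hg : Cfsg.Agent.Lib.Helper15.IsScalar2 (g : Matrix (Fin 2) (Fin 2) F)) : g = 1 ∨ g = -1 := by
  obtain ⟨h01, h10, h00⟩ := hg
  have hd := sl2_det_eq g
  rw [h01, zero_mul, sub_zero, ← h00] at hd
  have hfac : ((g : Matrix (Fin 2) (Fin 2) F) 0 0 - 1) * ((g : Matrix (Fin 2) (Fin 2) F) 0 0 + 1) = 0 := by
    linear_combination hd
  rcases mul_eq_zero.mp hfac with h | h
  · left
    have e : (g : Matrix (Fin 2) (Fin 2) F) 0 0 = 1 := by linear_combination h
    apply sl2_ext <;> simp [h01, h10, ← h00, e]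
  · right
    have e : (g : Matrix (Fin 2) (Fin 2) F) 0 0 = -1 := by linear_combination h
    apply sl2_ext <;> simp [h01, h10, ← h00, e]

theorem centralizer_scalar (g : Matrix.SpecialLinearGroup (Fin 2) F) (hg : g = 1 ∨ g = -1) :
    Subgroup.centralizer ({g} : Set (Matrix.SpecialLinearGroup (Fin 2) F)) = ⊤ := by
  rw [eq_top_iff]
  intro x _
  rw [mem_centralizer_singleton]
  rcases hg with rfl | rfl
  · group
  · simp

/-- The unipotent element. -/
def unipU (F : Type*) [Field F] : Matrix.SpecialLinearGroup (Fin 2) F :=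
  ⟨!![1, 1; 0, 1], by simp [Matrix.det_fin_two_of]⟩

theorem unipU_val : (unipU F : Matrix (Fin 2) (Fin 2) F) = !![1, 1; 0, 1] := rfl

theorem unipU_not_scalar :
    ¬ Cfsg.Agent.Lib.Helper15.IsScalar2 (unipU F : Matrix (Fin 2) (Fin 2) F) := by
  intro h
  have := h.1
  rw [unipU_val] at this
  simp at this

theorem unipU_trace : (unipU F : Matrix (Fin 2) (Fin 2) F).trace = 2 := by
  rw [unipU_val, Matrix.trace_fin_two]
  simp
  norm_num

theorem ellE_trace (t : F) : (ellE t : Matrix (Fin 2) (Fin 2) F).trace = t := by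
  rw [ellE_val, Matrix.trace_fin_two]; simp

theorem diagS_trace (u : Fˣ) :
    (diagS u : Matrix (Fin 2) (Fin 2) F).trace = (u : F) + ((u⁻¹ : Fˣ) : F) := by
  rw [diagS_val, Matrix.trace_fin_two]; simp

theorem diagS_not_scalar (u : Fˣ) (hu : (u : F) ^ 2 ≠ 1) :
    ¬ Cfsg.Agent.Lib.Helper15.IsScalar2 (diagS u : Matrix (Fin 2) (Fin 2) F) := by
  intro h
  have h3 := h.2.2
  rw [diagS_val] at h3
  simp at h3
  apply hu
  have hu0 : (u : F) ≠ 0 := u.ne_zero
  field_simp at h3
  linear_combination h3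

theorem diagS_root (u : Fˣ) :
    (-(u : F)) ^ 2 + (diagS u : Matrix (Fin 2) (Fin 2) F).trace * (-(u : F)) + 1 = 0 := by
  rw [diagS_trace, Units.val_inv_eq_inv_val]
  have hu0 : (u : F) ≠ 0 := u.ne_zero
  field_simp
  ring

theorem diagS_trace_sq (u : Fˣ) (hu : (u : F) ^ 2 ≠ 1) :
    (diagS u : Matrix (Fin 2) (Fin 2) F).trace ^ 2 ≠ 4 := by
  rw [diagS_trace, Units.val_inv_eq_inv_val]
  have hu0 : (u : F) ≠ 0 := u.ne_zero
  intro h
  apply hu
  field_simp at h
  have h' : ((u : F) ^ 2 - 1) ^ 2 = 0 := by linear_combination h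
  have := pow_eq_zero_iff (two_ne_zero) |>.mp h'
  linear_combination this

theorem sq_sub_one_eq (q : ℕ) (hq : 1 ≤ q) : q ^ 2 - 1 = (q - 1) * (q + 1) := by
  obtain ⟨m, rfl⟩ : ∃ m, q = m + 1 := ⟨q - 1, by omega⟩
  apply Nat.sub_eq_of_eq_add
  simp only [Nat.add_sub_cancel]
  ring

theorem index_of_card [Fintype F] (H : Subgroup (Matrix.SpecialLinearGroup (Fin 2) F)) (c i : ℕ)
    (hc : Nat.card H = c)
    (hci : c * i = Fintype.card F * ((Fintype.card F - 1) * (Fintype.card F + 1))) (hc0 : 0 < c) :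
    H.index = i := by
  have h1 := Subgroup.card_mul_index H
  rw [hc, card_SL2_eq, ← hci] at h1
  exact Nat.eq_of_mul_eq_mul_left hc0 h1

theorem index_centralizer_split [Fintype F] (g : Matrix.SpecialLinearGroup (Fin 2) F)
    (hg : ¬ Cfsg.Agent.Lib.Helper15.IsScalar2 (g : Matrix (Fin 2) (Fin 2) F))
    (ht : (g : Matrix (Fin 2) (Fin 2) F).trace ^ 2 ≠ 4) (m : F)
    (hm : m ^ 2 + (g : Matrix (Fin 2) (Fin 2) F).trace * m + 1 = 0)
    (hq : 3 ≤ Fintype.card F) :
    (Subgroup.centralizer ({g} : Set (Matrix.SpecialLinearGroup (Fin 2) F))).index =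
      Fintype.card F * (Fintype.card F + 1) := by
  apply index_of_card _ (Fintype.card F - 1) _ (card_centralizer_split g hg ht m hm) _ (by omega)
  ring

theorem index_centralizer_nonsplit [Fintype F] (g : Matrix.SpecialLinearGroup (Fin 2) F)
    (hg : ¬ Cfsg.Agent.Lib.Helper15.IsScalar2 (g : Matrix (Fin 2) (Fin 2) F))
    (h : NoRoot (g : Matrix (Fin 2) (Fin 2) F).trace) :
    (Subgroup.centralizer ({g} : Set (Matrix.SpecialLinearGroup (Fin 2) F))).index =
      Fintype.card F * (Fintype.card F - 1) := by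
  apply index_of_card _ (Fintype.card F + 1) _ (card_centralizer_nonsplit g hg h) _ (by omega)
  ring

theorem index_centralizer_parabolic_two [Fintype F] (h2 : (2 : F) = 0)
    (g : Matrix.SpecialLinearGroup (Fin 2) F)
    (hg : ¬ Cfsg.Agent.Lib.Helper15.IsScalar2 (g : Matrix (Fin 2) (Fin 2) F))
    (ht : (g : Matrix (Fin 2) (Fin 2) F).trace ^ 2 = 4) :
    (Subgroup.centralizer ({g} : Set (Matrix.SpecialLinearGroup (Fin 2) F))).index =
      Fintype.card F ^ 2 - 1 := by
  have hq : 1 ≤ Fintype.card F := Fintype.card_pos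
  have : CharP F 2 := CharTwo.of_one_ne_zero_of_two_eq_zero one_ne_zero h2
  apply index_of_card _ (Fintype.card F) _
    (by rw [card_centralizer_parabolic g hg ht, Cfsg.Agent.Lib.Helper15.card_sq_eq_one_even, one_mul])
    _ (by omega)
  rw [sq_sub_one_eq _ hq]

theorem index_centralizer_parabolic_odd [Fintype F] (h2 : (2 : F) ≠ 0)
    (g : Matrix.SpecialLinearGroup (Fin 2) F)
    (hg : ¬ Cfsg.Agent.Lib.Helper15.IsScalar2 (g : Matrix (Fin 2) (Fin 2) F))
    (ht : (g : Matrix (Fin 2) (Fin 2) F).trace ^ 2 = 4) :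
    (Subgroup.centralizer ({g} : Set (Matrix.SpecialLinearGroup (Fin 2) F))).index * 2 =
      Fintype.card F ^ 2 - 1 := by
  have hq : 1 ≤ Fintype.card F := Fintype.card_pos
  have h1 := Subgroup.card_mul_index
    (Subgroup.centralizer ({g} : Set (Matrix.SpecialLinearGroup (Fin 2) F)))
  rw [card_centralizer_parabolic g hg ht, Cfsg.Agent.Lib.Helper15.card_sq_eq_one_odd h2,
    card_SL2_eq, ← sq_sub_one_eq _ hq] at h1
  have h3 : Fintype.card F * ((Subgroup.centralizer
      ({g} : Set (Matrix.SpecialLinearGroup (Fin 2) F))).index * 2) =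
      Fintype.card F * (Fintype.card F ^ 2 - 1) := by
    rw [← h1]; ring
  exact Nat.eq_of_mul_eq_mul_left (by omega) h3

end Cent

end Cfsg.Agent.Lib.Helper16
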