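import Mathlib
import Cfsg.Agent.Lib.Helper16.SL2Cent

set_option autoImplicit false

namespace Cfsg.Agent.Lib.Helper16

open Matrix

section PSLClass

variable {F : Type*} [Field F]

theorem sl2_trace_neg (g : Matrix.SpecialLinearGroup (Fin 2) F) :
    ((-g : Matrix.SpecialLinearGroup (Fin 2) F) : Matrix (Fin 2) (Fin 2) F).trace =
      -(g : Matrix (Fin 2) (Fin 2) F).trace := by
  rw [Matrix.SpecialLinearGroup.coe_neg, Matrix.trace_neg]

theorem sl2_neg_not_scalar (g : Matrix.SpecialLinearGroup (Fin 2) F)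
    (hs : ¬ Cfsg.Agent.Lib.Helper15.IsScalar2 (g : Matrix (Fin 2) (Fin 2) F)) :
    ¬ Cfsg.Agent.Lib.Helper15.IsScalar2
      ((-g : Matrix.SpecialLinearGroup (Fin 2) F) : Matrix (Fin 2) (Fin 2) F) := by
  intro h
  apply hs
  obtain ⟨h1, h2, h3⟩ := h
  rw [Matrix.SpecialLinearGroup.coe_neg] at h1 h2 h3
  simp only [Matrix.neg_apply, neg_eq_zero, neg_inj] at h1 h2 h3
  exact ⟨h1, h2, h3⟩

theorem exists_conj_neg [Fintype F] (h2 : (2 : F) ≠ 0) (g : Matrix.SpecialLinearGroup (Fin 2) F)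
    (hs : ¬ Cfsg.Agent.Lib.Helper15.IsScalar2 (g : Matrix (Fin 2) (Fin 2) F))
    (ht : (g : Matrix (Fin 2) (Fin 2) F).trace = 0) :
    ∃ x : Matrix.SpecialLinearGroup (Fin 2) F, x * g * x⁻¹ = -g := by
  have h4 : (4 : F) ≠ 0 := by
    have : (4 : F) = 2 * 2 := by norm_num
    rw [this]; exact mul_ne_zero h2 h2
  have hc := Cfsg.Agent.Lib.Helper15.SL2_isConj_of_trace g (-g)
    (Or.inr (by rw [ht]; intro h; apply h4; linear_combination -h)) hs (sl2_neg_not_scalar g hs)
    (by rw [sl2_trace_neg, ht, neg_zero])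
  exact isConj_iff.mp hc

theorem not_conj_neg_of_trace (h2 : (2 : F) ≠ 0) (g : Matrix.SpecialLinearGroup (Fin 2) F)
    (ht : (g : Matrix (Fin 2) (Fin 2) F).trace ≠ 0) (x : Matrix.SpecialLinearGroup (Fin 2) F) :
    x * g * x⁻¹ ≠ -g := by
  intro h
  have h1 := Cfsg.Agent.Lib.Helper15.SL2_trace_of_isConj g (-g) (isConj_iff.mpr ⟨x, h⟩)
  rw [sl2_trace_neg] at h1
  apply ht
  have : 2 * (g : Matrix (Fin 2) (Fin 2) F).trace = 0 := by linear_combination h1
  exact (mul_eq_zero.mp this).resolve_left h2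

theorem not_conj_neg_of_scalar (h2 : (2 : F) ≠ 0) (g : Matrix.SpecialLinearGroup (Fin 2) F)
    (hg : g = 1 ∨ g = -1) (x : Matrix.SpecialLinearGroup (Fin 2) F) : x * g * x⁻¹ ≠ -g := by
  intro h
  have hne := sl2_neg_one_ne_one h2
  rcases hg with rfl | rfl
  · rw [mul_one, mul_inv_cancel] at h
    exact hne h.symm
  · rw [neg_neg] at h
    have : x * (-1) * x⁻¹ = -1 := by simp
    rw [this] at h
    exact hne h

theorem psl_index_of_not_conj (g : Matrix.SpecialLinearGroup (Fin 2) F)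
    (h : ∀ x : Matrix.SpecialLinearGroup (Fin 2) F, x * g * x⁻¹ ≠ -g) :
    (Subgroup.centralizer ({pslMk F g} : Set (Matrix.ProjectiveSpecialLinearGroup (Fin 2) F))).index =
      (Subgroup.centralizer ({g} : Set (Matrix.SpecialLinearGroup (Fin 2) F))).index := by
  rw [← index_cpm, cpm_eq_centralizer g h]

theorem psl_index_trace_zero [Fintype F] (h2 : (2 : F) ≠ 0) (g : Matrix.SpecialLinearGroup (Fin 2) F)
    (hs : ¬ Cfsg.Agent.Lib.Helper15.IsScalar2 (g : Matrix (Fin 2) (Fin 2) F))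
    (ht : (g : Matrix (Fin 2) (Fin 2) F).trace = 0) :
    (Subgroup.centralizer ({pslMk F g} : Set (Matrix.ProjectiveSpecialLinearGroup (Fin 2) F))).index * 2 =
      (Subgroup.centralizer ({g} : Set (Matrix.SpecialLinearGroup (Fin 2) F))).index := by
  obtain ⟨x₀, hx₀⟩ := exists_conj_neg h2 g hs ht
  have h1 := card_cpm_of_conj h2 g x₀ hx₀
  have h3 := Subgroup.card_mul_index (cpm g)
  have h4 := Subgroup.card_mul_index
    (Subgroup.centralizer ({g} : Set (Matrix.SpecialLinearGroup (Fin 2) F)))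
  rw [← index_cpm]
  rw [h1, ← h4] at h3
  have hpos : 0 < Nat.card (Subgroup.centralizer ({g} : Set (Matrix.SpecialLinearGroup (Fin 2) F))) :=
    Nat.card_pos
  have h5 : Nat.card (Subgroup.centralizer ({g} : Set (Matrix.SpecialLinearGroup (Fin 2) F))) *
      ((cpm g).index * 2) =
      Nat.card (Subgroup.centralizer ({g} : Set (Matrix.SpecialLinearGroup (Fin 2) F))) *
      (Subgroup.centralizer ({g} : Set (Matrix.SpecialLinearGroup (Fin 2) F))).index := by
    rw [← h3]; ring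
  exact Nat.eq_of_mul_eq_mul_left hpos h5

theorem sq_of_trace_zero (g : Matrix.SpecialLinearGroup (Fin 2) F)
    (ht : (g : Matrix (Fin 2) (Fin 2) F).trace = 0) : g * g = -1 := by
  rw [Matrix.trace_fin_two] at ht
  have h11 : (g : Matrix (Fin 2) (Fin 2) F) 1 1 = -(g : Matrix (Fin 2) (Fin 2) F) 0 0 := by
    linear_combination ht
  have hd := sl2_det_eq g
  rw [h11] at hd
  apply sl2_ext
  · rw [sl2_mul_entry]
    simp
    linear_combination -hd
  · rw [sl2_mul_entry, h11]
    simp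
    ring
  · rw [sl2_mul_entry, h11]
    simp
    ring
  · rw [sl2_mul_entry, h11]
    simp
    linear_combination -hd

/-- Non-scalar elements of a non-split torus have traces without roots. -/
theorem noRoot_trace_of_mem_nsT (t : F) (h : NoRoot t) (z : Matrix.SpecialLinearGroup (Fin 2) F)
    (hz : z ∈ nsT t) (hz10 : (z : Matrix (Fin 2) (Fin 2) F) 1 0 ≠ 0) :
    NoRoot (z : Matrix (Fin 2) (Fin 2) F).trace := by
  intro m hm
  obtain ⟨z1, z2⟩ := (mem_nsT t z).mp hz
  have hn := nsT_norm t z hz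
  rw [Matrix.trace_fin_two, z2] at hm
  have := aniso_of_noRoot t h ((z : Matrix (Fin 2) (Fin 2) F) 0 0 + m)
    ((z : Matrix (Fin 2) (Fin 2) F) 1 0) (by linear_combination hn + hm)
  exact hz10 this.2

end PSLClass

end Cfsg.Agent.Lib.Helper16
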