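import Mathlib
import Cfsg.Agent.Lib.Helper16.PSL2Class

set_option autoImplicit false

namespace Cfsg.Agent.Lib.Helper16

open Matrix

section PSLOrder

variable {F : Type*} [Field F]

theorem sl2_cayley (g : Matrix.SpecialLinearGroup (Fin 2) F) :
    (g : Matrix (Fin 2) (Fin 2) F) * (g : Matrix (Fin 2) (Fin 2) F) =
      (g : Matrix (Fin 2) (Fin 2) F).trace • (g : Matrix (Fin 2) (Fin 2) F) - 1 := by
  have hd := sl2_det_eq g
  ext i j
  fin_cases i <;> fin_cases j
  · simp [Matrix.mul_apply, Fin.sum_univ_two, Matrix.trace_fin_two]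
    linear_combination -hd
  · simp [Matrix.mul_apply, Fin.sum_univ_two, Matrix.trace_fin_two]
    ring
  · simp [Matrix.mul_apply, Fin.sum_univ_two, Matrix.trace_fin_two]
    ring
  · simp [Matrix.mul_apply, Fin.sum_univ_two, Matrix.trace_fin_two]
    linear_combination -hd

theorem parabolic_pow (p : ℕ) [Fact p.Prime] [CharP F p] (g : Matrix.SpecialLinearGroup (Fin 2) F)
    (ht : (g : Matrix (Fin 2) (Fin 2) F).trace = 2) : g ^ p = 1 := by
  apply Subtype.ext
  rw [Matrix.SpecialLinearGroup.coe_pow, Matrix.SpecialLinearGroup.coe_one]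
  have hc := sl2_cayley g
  rw [ht] at hc
  generalize (g : Matrix (Fin 2) (Fin 2) F) = A at hc
  have hn : (A - 1) * (A - 1) = 0 := by
    have : (A - 1) * (A - 1) = A * A - (2 : F) • A + 1 := by
      rw [sub_mul, mul_sub, mul_sub, mul_one, one_mul, mul_one, two_smul]; abel
    rw [this, hc]; abel
  have hA1 : A = (A - 1) + 1 := by abel
  have hp2 : 2 ≤ p := (Fact.out : p.Prime).two_le
  have h0 : (A - 1) ^ p = 0 := by
    obtain ⟨k, rfl⟩ : ∃ k, p = 2 + k := ⟨p - 2, by omega⟩
    rw [pow_add, pow_two, hn, zero_mul]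
  rw [hA1, add_pow_char_of_commute p (Commute.one_right _), one_pow, h0, zero_add]

theorem psl_neg (g : Matrix.SpecialLinearGroup (Fin 2) F) : pslMk F (-g) = pslMk F g :=
  ((pslMk_eq_iff g (-g)).mpr (Or.inr rfl)).symm

theorem psl_parabolic_pow (p : ℕ) [Fact p.Prime] [CharP F p]
    (g : Matrix.SpecialLinearGroup (Fin 2) F)
    (ht : (g : Matrix (Fin 2) (Fin 2) F).trace ^ 2 = 4) : pslMk F g ^ p = 1 := by
  have hfac : ((g : Matrix (Fin 2) (Fin 2) F).trace - 2) * ((g : Matrix (Fin 2) (Fin 2) F).trace + 2) = 0 := by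
    linear_combination ht
  rcases mul_eq_zero.mp hfac with h | h
  · rw [← map_pow, parabolic_pow p g (by linear_combination h), map_one]
  · rw [← psl_neg, ← map_pow, parabolic_pow p (-g) (by rw [sl2_trace_neg]; linear_combination -h),
      map_one]

theorem diagS_pow (u : Fˣ) (k : ℕ) : diagS u ^ k = diagS (u ^ k) := by
  have h1 : (diagEquiv F (u ^ k)) = (diagEquiv F u) ^ k := map_pow _ _ _
  have h2 := congrArg Subtype.val h1
  rw [Subgroup.coe_pow] at h2
  exact h2.symm

theorem diagS_eq_one_iff (u : Fˣ) : diagS u = 1 ↔ u = 1 := by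
  constructor
  · intro h
    have e00 := congrArg (fun m : Matrix.SpecialLinearGroup (Fin 2) F =>
      (m : Matrix (Fin 2) (Fin 2) F) 0 0) h
    simp [diagS_val] at e00
    exact e00
  · rintro rfl
    apply sl2_ext <;> simp [diagS_val]

theorem diagS_eq_neg_one_iff (u : Fˣ) : diagS u = -1 ↔ u = -1 := by
  constructor
  · intro h
    have e00 := congrArg (fun m : Matrix.SpecialLinearGroup (Fin 2) F =>
      (m : Matrix (Fin 2) (Fin 2) F) 0 0) h
    simp [diagS_val] at e00
    exact Units.ext (by rw [e00])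
  · rintro rfl
    apply sl2_ext <;> simp [diagS_val]

/-- Powers of the image of a diagonal element in `PSL₂`, characteristic two. -/
theorem psl_diag_pow_two (h2 : (2 : F) = 0) (u : Fˣ) (k : ℕ) :
    pslMk F (diagS u) ^ k = 1 ↔ u ^ k = 1 := by
  rw [← map_pow, pslMk_eq_one_iff, sl2_neg_one_eq_one h2, or_self, diagS_pow, diagS_eq_one_iff]

/-- Powers of the image of a diagonal element in `PSL₂`, odd characteristic. -/
theorem psl_diag_pow_odd (u : Fˣ) (k : ℕ) :
    pslMk F (diagS u) ^ k = 1 ↔ u ^ (2 * k) = 1 := by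
  rw [← map_pow, pslMk_eq_one_iff, diagS_pow, diagS_eq_one_iff, diagS_eq_neg_one_iff]
  constructor
  · rintro (h | h)
    · rw [mul_comm, pow_mul, h, one_pow]
    · rw [mul_comm, pow_mul, h]
      simp
  · intro h
    rw [mul_comm, pow_mul] at h
    have h' : ((u ^ k : Fˣ) : F) ^ 2 = 1 := by
      rw [← Units.val_pow_eq_pow_val, h, Units.val_one]
    have hfac : (((u ^ k : Fˣ) : F) - 1) * (((u ^ k : Fˣ) : F) + 1) = 0 := by linear_combination h'
    rcases mul_eq_zero.mp hfac with h1 | h1
    · left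
      apply Units.ext
      rw [Units.val_one]
      linear_combination h1
    · right
      apply Units.ext
      rw [Units.val_neg, Units.val_one]
      linear_combination h1

theorem nsT_sq_one (h2 : (2 : F) ≠ 0) (t : F) (g : Matrix.SpecialLinearGroup (Fin 2) F)
    (hg : g ∈ nsT t) (hgg : g * g = 1) : g = 1 ∨ g = -1 := by
  obtain ⟨g1, g2⟩ := (mem_nsT t g).mp hg
  have hn := nsT_norm t g hg
  have e00 := congrArg (fun m : Matrix.SpecialLinearGroup (Fin 2) F =>
    (m : Matrix (Fin 2) (Fin 2) F) 0 0) hgg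
  have e10 := congrArg (fun m : Matrix.SpecialLinearGroup (Fin 2) F =>
    (m : Matrix (Fin 2) (Fin 2) F) 1 0) hgg
  simp only [sl2_mul_entry, g1, g2, Matrix.SpecialLinearGroup.coe_one] at e00 e10
  simp at e00 e10
  have h10 : (g : Matrix (Fin 2) (Fin 2) F) 1 0 = 0 := by
    by_contra hne
    have e : 2 * (g : Matrix (Fin 2) (Fin 2) F) 0 0 + t * (g : Matrix (Fin 2) (Fin 2) F) 1 0 = 0 := by
      have : (g : Matrix (Fin 2) (Fin 2) F) 1 0 *
          (2 * (g : Matrix (Fin 2) (Fin 2) F) 0 0 + t * (g : Matrix (Fin 2) (Fin 2) F) 1 0) = 0 := by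
        linear_combination e10
      exact (mul_eq_zero.mp this).resolve_left hne
    apply h2
    linear_combination -hn - e00 + (g : Matrix (Fin 2) (Fin 2) F) 0 0 * e
  rcases nsT_scalar t g hg h10 with h | h
  · left
    exact Subtype.ext h
  · right
    apply Subtype.ext
    rw [h, Matrix.SpecialLinearGroup.coe_neg, Matrix.SpecialLinearGroup.coe_one]

/-- Powers of the image of a torus element in `PSL₂`, characteristic two. -/
theorem psl_nsT_pow_two (h2 : (2 : F) = 0) (z : Matrix.SpecialLinearGroup (Fin 2) F) (k : ℕ) :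
    pslMk F z ^ k = 1 ↔ z ^ k = 1 := by
  rw [← map_pow, pslMk_eq_one_iff, sl2_neg_one_eq_one h2, or_self]

/-- Powers of the image of a torus element in `PSL₂`, odd characteristic. -/
theorem psl_nsT_pow_odd (h2 : (2 : F) ≠ 0) (t : F) (z : Matrix.SpecialLinearGroup (Fin 2) F)
    (hz : z ∈ nsT t) (k : ℕ) :
    pslMk F z ^ k = 1 ↔ z ^ (2 * k) = 1 := by
  rw [← map_pow, pslMk_eq_one_iff]
  constructor
  · rintro (h | h)
    · rw [mul_comm, pow_mul, h, one_pow]
    · rw [mul_comm, pow_mul, h]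
      simp
  · intro h
    rw [mul_comm, pow_mul, pow_two] at h
    exact nsT_sq_one h2 t (z ^ k) ((nsT t).pow_mem hz k) h

theorem orderOf_conj' {G : Type*} [Group G] (c x : G) : orderOf (c * x * c⁻¹) = orderOf x :=
  orderOf_injective (MulAut.conj c).toMonoidHom (MulAut.conj c).injective x

/-- An element of order `m` from the relation between powers. -/
theorem orderOf_eq_of_pow_iff {G : Type*} [Group G] (x : G) (m : ℕ)
    (h : ∀ k : ℕ, x ^ k = 1 ↔ m ∣ k) : orderOf x = m := by
  apply Nat.dvd_antisymm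
  · exact orderOf_dvd_of_pow_eq_one ((h m).mpr dvd_rfl)
  · exact (h _).mp (pow_orderOf_eq_one x)

end PSLOrder

end Cfsg.Agent.Lib.Helper16
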