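import Mathlib
import Cfsg.Agent.Lib.Helper16.PSL2Order

set_option autoImplicit false

namespace Cfsg.Agent.Lib.Helper16

open Matrix

section PSLProd

variable {F : Type*} [Field F]

/-- An explicit element of `SL₂`. -/
def mkSL (a b c d : F) (h : a * d - b * c = 1) : Matrix.SpecialLinearGroup (Fin 2) F :=
  ⟨!![a, b; c, d], by rw [Matrix.det_fin_two_of]; exact h⟩

theorem mkSL_00 (a b c d : F) (h : a * d - b * c = 1) :
    (mkSL a b c d h : Matrix (Fin 2) (Fin 2) F) 0 0 = a := rfl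

theorem mkSL_01 (a b c d : F) (h : a * d - b * c = 1) :
    (mkSL a b c d h : Matrix (Fin 2) (Fin 2) F) 0 1 = b := rfl

theorem mkSL_10 (a b c d : F) (h : a * d - b * c = 1) :
    (mkSL a b c d h : Matrix (Fin 2) (Fin 2) F) 1 0 = c := rfl

theorem mkSL_11 (a b c d : F) (h : a * d - b * c = 1) :
    (mkSL a b c d h : Matrix (Fin 2) (Fin 2) F) 1 1 = d := rfl

theorem sl2_trace_mul (g h : Matrix.SpecialLinearGroup (Fin 2) F) :
    ((g * h : Matrix.SpecialLinearGroup (Fin 2) F) : Matrix (Fin 2) (Fin 2) F).trace =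
      (g : Matrix (Fin 2) (Fin 2) F) 0 0 * (h : Matrix (Fin 2) (Fin 2) F) 0 0 +
      (g : Matrix (Fin 2) (Fin 2) F) 0 1 * (h : Matrix (Fin 2) (Fin 2) F) 1 0 +
      ((g : Matrix (Fin 2) (Fin 2) F) 1 0 * (h : Matrix (Fin 2) (Fin 2) F) 0 1 +
      (g : Matrix (Fin 2) (Fin 2) F) 1 1 * (h : Matrix (Fin 2) (Fin 2) F) 1 1) := by
  rw [Matrix.trace_fin_two, sl2_mul_entry, sl2_mul_entry]

theorem sl2_trace_inv (g : Matrix.SpecialLinearGroup (Fin 2) F) :
    ((g⁻¹ : Matrix.SpecialLinearGroup (Fin 2) F) : Matrix (Fin 2) (Fin 2) F).trace =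
      (g : Matrix (Fin 2) (Fin 2) F).trace := by
  rw [Matrix.trace_fin_two, Matrix.trace_fin_two, sl2_inv_00, sl2_inv_11, add_comm]

theorem sl2_trace_conj (c g : Matrix.SpecialLinearGroup (Fin 2) F) :
    ((c * g * c⁻¹ : Matrix.SpecialLinearGroup (Fin 2) F) : Matrix (Fin 2) (Fin 2) F).trace =
      (g : Matrix (Fin 2) (Fin 2) F).trace :=
  (Cfsg.Agent.Lib.Helper15.SL2_trace_of_isConj g _ (isConj_iff.mpr ⟨c, rfl⟩)).symm

/-- A matrix in `SL₂` whose trace squared is not `4` is not scalar. -/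
theorem not_scalar_of_trace (g : Matrix.SpecialLinearGroup (Fin 2) F)
    (ht : (g : Matrix (Fin 2) (Fin 2) F).trace ^ 2 ≠ 4) :
    ¬ Cfsg.Agent.Lib.Helper15.IsScalar2 (g : Matrix (Fin 2) (Fin 2) F) := by
  intro hs
  apply ht
  rcases sl2_scalar_cases g hs with rfl | rfl
  · simp; norm_num
  · rw [sl2_trace_neg]
    simp; norm_num

theorem not_scalar_of_ne (g : Matrix.SpecialLinearGroup (Fin 2) F) (h1 : g ≠ 1) (h2 : g ≠ -1) :
    ¬ Cfsg.Agent.Lib.Helper15.IsScalar2 (g : Matrix (Fin 2) (Fin 2) F) := by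
  intro hs
  rcases sl2_scalar_cases g hs with h | h
  · exact h1 h
  · exact h2 h

theorem not_scalar_of_psl (g : Matrix.SpecialLinearGroup (Fin 2) F) (h : pslMk F g ≠ 1) :
    ¬ Cfsg.Agent.Lib.Helper15.IsScalar2 (g : Matrix (Fin 2) (Fin 2) F) := by
  apply not_scalar_of_ne
  · rintro rfl
    exact h (map_one _)
  · rintro rfl
    exact h ((pslMk_eq_one_iff _).mpr (Or.inr rfl))

/-- A non-scalar element has a conjugate with non-zero lower left entry. -/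
theorem exists_conj_lower (g : Matrix.SpecialLinearGroup (Fin 2) F)
    (hs : ¬ Cfsg.Agent.Lib.Helper15.IsScalar2 (g : Matrix (Fin 2) (Fin 2) F)) :
    ∃ c : Matrix.SpecialLinearGroup (Fin 2) F,
      ((c * g * c⁻¹ : Matrix.SpecialLinearGroup (Fin 2) F) : Matrix (Fin 2) (Fin 2) F) 1 0 ≠ 0 := by
  by_cases h10 : (g : Matrix (Fin 2) (Fin 2) F) 1 0 = 0
  · by_cases h01 : (g : Matrix (Fin 2) (Fin 2) F) 0 1 = 0
    · have hne : (g : Matrix (Fin 2) (Fin 2) F) 0 0 ≠ (g : Matrix (Fin 2) (Fin 2) F) 1 1 :=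
        fun h => hs ⟨h01, h10, h⟩
      refine ⟨mkSL 1 0 1 1 (by ring), ?_⟩
      rw [sl2_conj_10, mkSL_10, mkSL_11, h10, h01]
      intro h
      apply hne
      linear_combination h
    · refine ⟨mkSL 0 1 (-1) 0 (by ring), ?_⟩
      rw [sl2_conj_10, mkSL_10, mkSL_11]
      intro h
      apply h01
      linear_combination -h
  · exact ⟨1, by simpa using h10⟩

/-- A non-scalar element has a conjugate with zero upper left and non-zero lower left entry. -/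
theorem exists_conj_companion (g : Matrix.SpecialLinearGroup (Fin 2) F)
    (hs : ¬ Cfsg.Agent.Lib.Helper15.IsScalar2 (g : Matrix (Fin 2) (Fin 2) F)) :
    ∃ c : Matrix.SpecialLinearGroup (Fin 2) F,
      ((c * g * c⁻¹ : Matrix.SpecialLinearGroup (Fin 2) F) : Matrix (Fin 2) (Fin 2) F) 0 0 = 0 ∧
      ((c * g * c⁻¹ : Matrix.SpecialLinearGroup (Fin 2) F) : Matrix (Fin 2) (Fin 2) F) 1 0 ≠ 0 := by
  obtain ⟨c, hc⟩ := exists_conj_lower g hs
  set g' := c * g * c⁻¹ with hg'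
  set e := (g' : Matrix (Fin 2) (Fin 2) F) 1 0 with he
  refine ⟨mkSL 1 (-(g' : Matrix (Fin 2) (Fin 2) F) 0 0 / e) 0 1 (by ring) * c, ?_⟩
  have hrw : mkSL 1 (-(g' : Matrix (Fin 2) (Fin 2) F) 0 0 / e) 0 1 (by ring) * c * g *
      (mkSL 1 (-(g' : Matrix (Fin 2) (Fin 2) F) 0 0 / e) 0 1 (by ring) * c)⁻¹ =
      mkSL 1 (-(g' : Matrix (Fin 2) (Fin 2) F) 0 0 / e) 0 1 (by ring) * g' *
        (mkSL 1 (-(g' : Matrix (Fin 2) (Fin 2) F) 0 0 / e) 0 1 (by ring))⁻¹ := by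
    rw [hg']; group
  rw [hrw]
  constructor
  · rw [sl2_conj_00, mkSL_00, mkSL_01, mkSL_10, mkSL_11, ← he]
    field_simp
    ring
  · rw [sl2_conj_10, mkSL_10, mkSL_11, ← he]
    simpa using hc

/-- Conjugate elements of `PSL₂` have lifts with equal squared traces. -/
theorem psl_isConj_trace_sq (X Y : Matrix.SpecialLinearGroup (Fin 2) F)
    (h : IsConj (pslMk F X) (pslMk F Y)) :
    (X : Matrix (Fin 2) (Fin 2) F).trace ^ 2 = (Y : Matrix (Fin 2) (Fin 2) F).trace ^ 2 := by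
  obtain ⟨u, hu⟩ := isConj_iff.mp h
  obtain ⟨U, rfl⟩ := pslMk_surjective u
  rw [← map_inv, ← map_mul, ← map_mul, pslMk_eq_iff] at hu
  rcases hu with hu | hu
  · rw [hu, sl2_trace_conj]
  · rw [hu, sl2_trace_neg, sl2_trace_conj]; ring

/-- The factor used to write an element as a product of two elements of prescribed traces. -/
theorem exists_factor (Z : Matrix.SpecialLinearGroup (Fin 2) F)
    (hZ0 : (Z : Matrix (Fin 2) (Fin 2) F) 0 0 = 0) (hZ1 : (Z : Matrix (Fin 2) (Fin 2) F) 1 0 ≠ 0)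
    (t ε d γ : F)
    (hc : d ^ 2 + γ ^ 2 - (Z : Matrix (Fin 2) (Fin 2) F).trace * d * γ - t * d + ε * t * γ + 1 = 0) :
    ∃ Y : Matrix.SpecialLinearGroup (Fin 2) F, (Y : Matrix (Fin 2) (Fin 2) F).trace = t ∧
      ((Z * Y : Matrix.SpecialLinearGroup (Fin 2) F) : Matrix (Fin 2) (Fin 2) F).trace = ε * t := by
  set e := (Z : Matrix (Fin 2) (Fin 2) F) 1 0 with he
  set τ := (Z : Matrix (Fin 2) (Fin 2) F).trace with hτ
  have h11 : (Z : Matrix (Fin 2) (Fin 2) F) 1 1 = τ := by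
    rw [hτ, Matrix.trace_fin_two, hZ0, zero_add]
  have h01 : (Z : Matrix (Fin 2) (Fin 2) F) 0 1 = -e⁻¹ := by
    have hd := sl2_det_eq Z
    rw [hZ0, zero_mul, zero_sub, ← he] at hd
    field_simp
    linear_combination -hd
  refine ⟨mkSL (t - d) (e⁻¹ * (ε * t - τ * d + γ)) (e * γ) d ?_, ?_, ?_⟩
  · field_simp
    linear_combination -hc
  · rw [Matrix.trace_fin_two, mkSL_00, mkSL_11]; ring
  · rw [sl2_trace_mul, mkSL_00, mkSL_01, mkSL_10, mkSL_11, hZ0, h01, h11, ← he]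
    field_simp
    ring

/-- Conic point, generic case. -/
theorem exists_conic_pt_gen [Fintype F] (τ t : F) (hτ : τ ^ 2 ≠ 4) :
    ∃ d γ : F, d ^ 2 + γ ^ 2 - τ * d * γ - t * d + 1 * t * γ + 1 = 0 := by
  have h2τ : 2 + τ ≠ 0 := by
    intro h
    apply hτ
    have : τ = -2 := by linear_combination h
    rw [this]; norm_num
  obtain ⟨x, y, hxy⟩ := Cfsg.Agent.Lib.Helper15.norm_universal (-τ)
    (Or.inr (by rw [neg_sq]; exact hτ)) ((t ^ 2 - 2 - τ) / (2 + τ))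
  refine ⟨t / (2 + τ) + x, -t / (2 + τ) + y, ?_⟩
  have h3 : (x ^ 2 + -τ * x * y + y ^ 2) * (2 + τ) = t ^ 2 - 2 - τ := by
    rw [hxy]; field_simp
  field_simp
  linear_combination (2 + τ) * h3

/-- Conic point, parabolic case. -/
theorem exists_conic_pt_par (t : F) (h2 : (2 : F) ≠ 0) (ht : t ≠ 0) :
    ∃ d γ : F, d ^ 2 + γ ^ 2 - 2 * d * γ - t * d + (-1) * t * γ + 1 = 0 := by
  refine ⟨1 / (2 * t), 1 / (2 * t), ?_⟩
  field_simp
  ring

/-- Conic point, parabolic case in characteristic two. -/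
theorem exists_conic_pt_two (t s : F) (h2 : (2 : F) = 0) (hs : s ^ 2 + t * s + 1 = 0) :
    ∃ d γ : F, d ^ 2 + γ ^ 2 - 0 * d * γ - t * d + 1 * t * γ + 1 = 0 := by
  refine ⟨s, 0, ?_⟩
  linear_combination hs - s * t * h2

/-- Product of two conjugates from a conic point. -/
theorem psl_prod_of_conic [Fintype F] (X Z : Matrix.SpecialLinearGroup (Fin 2) F)
    (ht : (X : Matrix (Fin 2) (Fin 2) F).trace ^ 2 ≠ 4)
    (hZ0 : (Z : Matrix (Fin 2) (Fin 2) F) 0 0 = 0) (hZ1 : (Z : Matrix (Fin 2) (Fin 2) F) 1 0 ≠ 0)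
    (ε d γ : F) (hε : ε = 1 ∨ ε = -1)
    (hc : d ^ 2 + γ ^ 2 - (Z : Matrix (Fin 2) (Fin 2) F).trace * d * γ -
      (X : Matrix (Fin 2) (Fin 2) F).trace * d + ε * (X : Matrix (Fin 2) (Fin 2) F).trace * γ + 1 = 0) :
    ∃ u v : Matrix.ProjectiveSpecialLinearGroup (Fin 2) F,
      pslMk F Z = (u * pslMk F X * u⁻¹) * (v * pslMk F X * v⁻¹) := by
  obtain ⟨Y, hY1, hY2⟩ := exists_factor Z hZ0 hZ1 _ ε d γ hc
  have hXs := not_scalar_of_trace X ht
  have hYi : ((Y⁻¹ : Matrix.SpecialLinearGroup (Fin 2) F) : Matrix (Fin 2) (Fin 2) F).trace =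
      (X : Matrix (Fin 2) (Fin 2) F).trace := by rw [sl2_trace_inv, hY1]
  have hc2 := Cfsg.Agent.Lib.Helper15.SL2_isConj_of_trace X Y⁻¹ (Or.inr ht) hXs
    (not_scalar_of_trace _ (by rw [hYi]; exact ht)) hYi.symm
  obtain ⟨v, hv⟩ := isConj_iff.mp hc2
  have hprod : pslMk F Z = pslMk F (Z * Y) * pslMk F Y⁻¹ := by
    rw [← map_mul, mul_inv_cancel_right]
  rcases hε with rfl | rfl
  · rw [one_mul] at hY2
    have hc1 := Cfsg.Agent.Lib.Helper15.SL2_isConj_of_trace X (Z * Y) (Or.inr ht) hXs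
      (not_scalar_of_trace _ (by rw [hY2]; exact ht)) hY2.symm
    obtain ⟨u, hu⟩ := isConj_iff.mp hc1
    refine ⟨pslMk F u, pslMk F v, ?_⟩
    rw [hprod, ← hu, ← hv]
    simp only [map_mul, map_inv]
  · have hnX : ((-X : Matrix.SpecialLinearGroup (Fin 2) F) : Matrix (Fin 2) (Fin 2) F).trace =
        ((Z * Y : Matrix.SpecialLinearGroup (Fin 2) F) : Matrix (Fin 2) (Fin 2) F).trace := by
      rw [sl2_trace_neg, hY2]; ring
    have ht' : ((-X : Matrix.SpecialLinearGroup (Fin 2) F) : Matrix (Fin 2) (Fin 2) F).trace ^ 2 ≠ 4 := by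
      rw [sl2_trace_neg, neg_sq]; exact ht
    have hc1 := Cfsg.Agent.Lib.Helper15.SL2_isConj_of_trace (-X) (Z * Y) (Or.inr ht')
      (sl2_neg_not_scalar X hXs) (not_scalar_of_trace _ (by rw [← hnX]; exact ht')) hnX
    obtain ⟨u, hu⟩ := isConj_iff.mp hc1
    refine ⟨pslMk F u, pslMk F v, ?_⟩
    rw [hprod, ← hu, ← hv]
    simp only [map_mul, map_inv, psl_neg]

/-- Transport of a product decomposition along a conjugation of the target. -/
theorem psl_prod_conj (X Z c : Matrix.SpecialLinearGroup (Fin 2) F)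
    (h : ∃ u v : Matrix.ProjectiveSpecialLinearGroup (Fin 2) F,
      pslMk F (c * Z * c⁻¹) = (u * pslMk F X * u⁻¹) * (v * pslMk F X * v⁻¹)) :
    ∃ u v : Matrix.ProjectiveSpecialLinearGroup (Fin 2) F,
      pslMk F Z = (u * pslMk F X * u⁻¹) * (v * pslMk F X * v⁻¹) := by
  obtain ⟨u, v, huv⟩ := h
  refine ⟨(pslMk F c)⁻¹ * u, (pslMk F c)⁻¹ * v, ?_⟩
  have : pslMk F Z = (pslMk F c)⁻¹ * pslMk F (c * Z * c⁻¹) * pslMk F c := by
    simp only [map_mul, map_inv]; group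
  rw [this, huv]
  group

end PSLProd

end Cfsg.Agent.Lib.Helper16
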